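import Cfsg.Agent.Lib.Block.CoprimeCover
import Cfsg.Agent.Lib.Block.FongReynolds

/-!
# The characters below a block and its correspondent

The correspondent of a character of a normal `p'`-subgroup at a `p`-subgroup `P`, and the character of
that subgroup below a block induced from the normaliser of `P`.
-/

set_option autoImplicit false
set_option linter.unusedSectionVars false

open MonoidAlgebra
open scoped ComplexConjugate

namespace CfsgLib.Block.AbelianIso

open Cfsg CfsgLib CfsgLib.Block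
open scoped Pair

universe u

variable {p : ℕ} [Fact p.Prime] {M : Ideal AlgInt} [M.IsMaximal]

/-- The reduced central characters along an isomorphism. -/
theorem omegaBar_pull {A A' : Type u} [Group A] [Fintype A] [DecidableEq A] [Group A'] [Fintype A']
    [DecidableEq A'] (e : A ≃* A') (χ : IrrCharacter A) {z : ZK M A} {z' : ZK M A'}
    (h : ∀ a, (z' : MonoidAlgebra (ResField M) A').coeff (e a) = (z : MonoidAlgebra (ResField M) A).coeff a) :
    omegaBar M (irrEquiv e χ) z' = omegaBar M χ z := by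
  obtain ⟨w, rfl⟩ := toKC_surjective z
  let w' : ZL M A' := ⟨gaOfFun fun b => (w : MonoidAlgebra (locRing M) A).coeff (e.symm b),
    mem_center_iff_isClassElt.mpr fun g x => by
      simp only [coeff_gaOfFun, map_mul, map_inv]
      exact mem_center_iff_isClassElt.mp w.2 _ _⟩
  have hw' : toKC M w' = z' := Subtype.ext (ga_ext fun b => by
    obtain ⟨a, rfl⟩ := e.surjective b
    rw [h]
    simp [w'])
  rw [← hw', omegaBar_toKC, omegaBar_toKC, omegaRes, omegaRes, RingHom.comp_apply, RingHom.comp_apply]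
  congr 1
  apply Subtype.ext
  rw [coe_omegaLoc, coe_omegaLoc, omega, omega]
  congr 1
  · exact (Fintype.sum_equiv e.toEquiv _ _ fun a => by simp [toC, w']).symm
  · simp

theorem normal_subgroupOf_inf {G : Type u} [Group G] [Fintype G] [DecidableEq G] (K : Subgroup G) [K.Normal] {P : Subgroup G} :
    ((K ⊓ Subgroup.centralizer (P : Set G)).subgroupOf (Subgroup.normalizer (P : Set G))).Normal := by
  refine ⟨fun c hc n => ?_⟩
  rw [Subgroup.mem_subgroupOf] at hc ⊢
  exact ⟨‹K.Normal›.conj_mem _ hc.1 _, (mem_centralizer_conj_iff n.2).2 hc.2⟩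

variable {G : Type u} [Group G] [Fintype G] [DecidableEq G] {K : Subgroup G} [K.Normal] [Fintype K]
  {P C : Subgroup G}

theorem inf_normalizer_le (hK : ¬ p ∣ Nat.card K) (hP : IsPGroup p P)
    (hC : C = K ⊓ Subgroup.centralizer (P : Set G)) :
    K ⊓ Subgroup.normalizer (P : Set G) ≤ C := by
  rintro x ⟨hxK, hxN⟩
  refine hC ▸ ⟨hxK, Subgroup.mem_centralizer_iff.2 fun u hu => ?_⟩
  have h1 := CoprimeCover.eq_one_of_mem hK hP (x := x * u * x⁻¹ * u⁻¹)
    (by
      rw [show x * u * x⁻¹ * u⁻¹ = x * (u * x⁻¹ * u⁻¹) by group]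
      exact mul_mem hxK (‹K.Normal›.conj_mem _ (inv_mem hxK) u))
    (mul_mem ((Subgroup.mem_normalizer_iff.1 hxN u).1 hu) (inv_mem hu))
  rw [mul_inv_eq_one, mul_inv_eq_iff_eq_mul] at h1
  exact h1.symm

/-- The truncated idempotent of an invariant character is that of its correspondent. -/
theorem trC_eG (hM : IsPModular p M) (hK : ¬ p ∣ Nat.card K) {θ : IrrCharacter K}
    (hinv : Glauberman.GInv K P (θ : K → ℂ)) (hC : C = K ⊓ Subgroup.centralizer (P : Set G))
    (hP : IsPGroup p P) {θs : IrrCharacter C}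
    (hθs : omG M θs (eG M ({θ} : Set (IrrCharacter K))) = 1) :
    trC P (eG M ({θ} : Set (IrrCharacter K))) = eG M ({θs} : Set (IrrCharacter C)) := by
  classical
  have hnorm : ∀ s ∈ P, ∀ n ∈ K, s * n * s⁻¹ ∈ K := fun s _ n hn => ‹K.Normal›.conj_mem n hn s
  have hpC : ¬ p ∣ Nat.card C :=
    fun h' => hK (h'.trans (Subgroup.card_dvd_of_le (hC ▸ inf_le_left)))
  have hb := Glauberman.singleton_isPBlock hM hK θ
  have hb' := Glauberman.singleton_isPBlock hM hpC θs
  have hge := Glauberman.good_eG (M := M) hC hnorm hinv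
  refine eq_eG_of_omG (K := C) hM hb' (hge.trC hC).1 (hge.trC hC).2
    (by rw [← trC_mul hM hP hge.cinvS hge.cinvS, eG_mul_self hM hb]) fun γ => ?_
  rw [Glauberman.omG_trC hC, omG_eG hM hb']
  split_ifs with hγ
  · rw [Set.mem_singleton_iff] at hγ; rw [hγ]; exact hθs
  · refine (Glauberman.omG_eG_01 hC hM hP hnorm hK hinv γ).resolve_right fun h1 => hγ ?_
    exact (Glauberman.existsUnique_down hC hM hP hnorm hK hinv).unique h1 hθs

/-- Invariant characters with a common correspondent are equal. -/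
theorem eq_of_common (hM : IsPModular p M) (hK : ¬ p ∣ Nat.card K) {θ θ' : IrrCharacter K}
    (hinv : Glauberman.GInv K P (θ : K → ℂ)) (hinv' : Glauberman.GInv K P (θ' : K → ℂ))
    (hC : C = K ⊓ Subgroup.centralizer (P : Set G)) (hP : IsPGroup p P) {θs : IrrCharacter C}
    (h : omG M θs (eG M ({θ} : Set (IrrCharacter K))) = 1)
    (h' : omG M θs (eG M ({θ'} : Set (IrrCharacter K))) = 1) : θ = θ' := by
  have hnorm : ∀ s ∈ P, ∀ n ∈ K, s * n * s⁻¹ ∈ K := fun s _ n hn => ‹K.Normal›.conj_mem n hn s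
  by_contra hne
  have h1 := Glauberman.omG_good_mul hC hM hP θs (Glauberman.good_eG (M := M) hC hnorm hinv)
    (Glauberman.good_eG (M := M) hC hnorm hinv')
  rw [h, h', one_mul, eG_mul_eq_zero hM (Glauberman.singleton_isPBlock hM hK θ)
    (Glauberman.singleton_isPBlock hM hK θ') fun e => hne (Set.singleton_eq_singleton_iff.1 e),
    omG_zero] at h1
  exact zero_ne_one h1

/-- A normalising element fixes an invariant character exactly when it fixes the correspondent. -/
theorem fixes_iff (hM : IsPModular p M) (hK : ¬ p ∣ Nat.card K) {θ : IrrCharacter K}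
    (hinv : Glauberman.GInv K P (θ : K → ℂ)) (hC : C = K ⊓ Subgroup.centralizer (P : Set G))
    (hP : IsPGroup p P) {θs : IrrCharacter C} (h : omG M θs (eG M ({θ} : Set (IrrCharacter K))) = 1)
    {n : G} (hn : n ∈ Subgroup.normalizer (P : Set G)) (hnC : ∀ g, g ∈ C ↔ n * g * n⁻¹ ∈ C) :
    cjN n θ = θ ↔ irrEquiv (cjHom hnC) θs = θs := by
  classical
  have hnorm : ∀ s ∈ P, ∀ n ∈ K, s * n * s⁻¹ ∈ K := fun s _ n hn => ‹K.Normal›.conj_mem n hn s
  have hinv' : Glauberman.GInv K P (cjN n θ : K → ℂ) := by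
    intro s hs k k' he
    rw [cjN_apply, cjN_apply]
    refine hinv (n⁻¹ * s * n) ((Subgroup.mem_normalizer_iff''.1 hn s).1 hs) _ _ ?_
    show n⁻¹ * (k' : G) * n = n⁻¹ * s * n * (n⁻¹ * (k : G) * n) * (n⁻¹ * s * n)⁻¹
    rw [he]
    group
  have heq : omG M (irrEquiv (cjHom hnC) θs) (eG M ({cjN n θ} : Set (IrrCharacter K))) = 1 := by
    rw [← Set.image_singleton, cj_eG_cjN, omG_cj hnC]
    · exact h
    · exact (Glauberman.good_eG (M := M) hC hnorm hinv).cinvG.mono (hC ▸ inf_le_left)
  constructor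
  · intro he
    rw [he] at heq
    exact (Glauberman.existsUnique_down hC hM hP hnorm hK hinv).unique heq h
  · intro he
    rw [he] at heq
    exact eq_of_common hM hK hinv' hinv hC hP heq h

/-- Where `K` meets the normaliser the idempotent of an invariant character is that of its
correspondent. -/
theorem coeff_eG_normalizer (hM : IsPModular p M) (hK : ¬ p ∣ Nat.card K) {θ : IrrCharacter K}
    (hinv : Glauberman.GInv K P (θ : K → ℂ)) (hC : C = K ⊓ Subgroup.centralizer (P : Set G))
    (hP : IsPGroup p P) (hCN : C ≤ Subgroup.normalizer (P : Set G)) {θs : IrrCharacter C}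
    (hθs : omG M θs (eG M ({θ} : Set (IrrCharacter K))) = 1)
    (n : Subgroup.normalizer (P : Set G)) :
    (eG M ({irrEquiv (Subgroup.subgroupOfEquivOfLe hCN).symm θs} :
      Set (IrrCharacter (C.subgroupOf (Subgroup.normalizer (P : Set G)))))).coeff n =
      (eG M ({θ} : Set (IrrCharacter K))).coeff (n : G) := by
  classical
  by_cases hn : (n : G) ∈ C
  · rw [show n = ((⟨n, hn⟩ : C.subgroupOf (Subgroup.normalizer (P : Set G))) :
      Subgroup.normalizer (P : Set G)) from rfl, coeff_eG, ← Set.image_singleton,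
      show (⟨n, hn⟩ : C.subgroupOf (Subgroup.normalizer (P : Set G))) =
        (Subgroup.subgroupOfEquivOfLe hCN).symm ⟨(n : G), hn⟩ from Subtype.ext (Subtype.ext rfl),
      coeffRes_image_irrEquiv, ← coeff_eG (G := G) ({θs} : Set (IrrCharacter C)) ⟨(n : G), hn⟩,
      ← trC_eG hM hK hinv hC hP hθs]
    refine (coeff_trC _ ?_).trans rfl
    exact (hC ▸ inf_le_right : C ≤ _) hn
  · rw [suppIn_eG _ n fun h => hn h, suppIn_eG _ (n : G) fun h => hn
      (inf_normalizer_le hK hP hC ⟨h, n.2⟩)]

/-- A block induced from a block of the normaliser over the correspondent lies over the character. -/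
theorem over_of_induced (hM : IsPModular p M) (hK : ¬ p ∣ Nat.card K) {θ : IrrCharacter K}
    (hinv : Glauberman.GInv K P (θ : K → ℂ)) (hC : C = K ⊓ Subgroup.centralizer (P : Set G))
    (hP : IsPGroup p P) (hCN : C ≤ Subgroup.normalizer (P : Set G))
    [(C.subgroupOf (Subgroup.normalizer (P : Set G))).Normal] {θs : IrrCharacter C}
    (hθs : omG M θs (eG M ({θ} : Set (IrrCharacter K))) = 1)
    {ξ : IrrCharacter (Subgroup.normalizer (P : Set G))}
    (hξ : classInner (fun c : C.subgroupOf (Subgroup.normalizer (P : Set G)) =>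
        (ξ : Subgroup.normalizer (P : Set G) → ℂ) c)
      (irrEquiv (Subgroup.subgroupOfEquivOfLe hCN).symm θs : C.subgroupOf (Subgroup.normalizer (P : Set G)) → ℂ)
      ≠ 0) {χ : IrrCharacter G}
    (hω : ∀ z, omegaBar M ξ (resHK M (Subgroup.normalizer (P : Set G)) z) = omegaBar M χ z) :
    classInner (fun k : K => (χ : G → ℂ) k) (θ : K → ℂ) ≠ 0 := by
  classical
  have hnorm : ∀ s ∈ P, ∀ n ∈ K, s * n * s⁻¹ ∈ K := fun s _ n hn => ‹K.Normal›.conj_mem n hn s
  set b : Set (IrrCharacter K) := {θ} with hbdef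
  have hb : IsPBlock M b := Glauberman.singleton_isPBlock hM hK θ
  set z := zkOf M _ (cinv_eG_orbSet (G := G) (M := M) b) with hz
  obtain ⟨η, hη⟩ := exists_constituent (N := K) χ
  have h1 : omegaBar M χ z = @ite _ (η ∈ orbSet (G := G) b) (Classical.propDecidable _) 1 0 := by
    rw [omegaBar_eq_omG_of_constituent χ η hη z (suppIn_eG _), hz, coe_zkOf, omG_eG_orbSet hM hb]
  have hge := Glauberman.good_eG (M := M) hC hnorm hinv
  set y : MonoidAlgebra (ResField M) G := eG M (orbSet (G := G) b) with hy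
  have hgy : Glauberman.Good K P y :=
    ⟨suppIn_eG _, cinv_eG _, (cinv_eG_orbSet b).mono le_top⟩
  have hU := isBlockUnion_orbSet (G := G) hb
  have hye : eG M b * y = eG M b := by
    rw [hy, eG, eG, ← emb_mul, ← MulMemClass.coe_mul,
      CoprimeCover.blockBar_mul_of_subset hM hb hU (subset_orbSet b)]
  have hy1 : omG M θs y = 1 := by
    have h2 := Glauberman.omG_good_mul hC hM hP θs hge hgy
    rw [← hbdef, hye, hbdef, hθs, one_mul] at h2
    exact h2.symm
  have hcC : CInv C y := (cinv_eG_orbSet b).mono le_top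
  rw [← hω z, omegaBar_eq_omG_of_constituent ξ _ hξ _ (fun n hn => ?_),
    omG_eq _ _ (cenOf M _ (cinv_of_central (resHK M (Subgroup.normalizer (P : Set G)) z) _)) (fun _ => rfl),
    omegaBar_pull (Subgroup.subgroupOfEquivOfLe hCN).symm θs (z := cenOf M y hcC) (fun a => ?_),
    omG_cenOf, hy1] at h1
  · split_ifs at h1 with hmem
    · obtain ⟨g, hg⟩ := hmem
      rw [hbdef, Set.mem_singleton_iff] at hg
      rw [← hg, classInner_cjN]
      exact hη
    · exact absurd h1 one_ne_zero
  · rw [coeff_cenOf, coeff_cenOf, coeff_resHK]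
    rfl
  · rw [coeff_resHK]
    exact suppIn_eG _ _ fun h => hn (inf_normalizer_le hK hP hC ⟨h, n.2⟩)

end CfsgLib.Block.AbelianIso
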