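import Cfsg.Agent.Lib.Block.FongSwan.Central
import Cfsg.Agent.Lib.Block.RegularIndicator
import Cfsg.Agent.Lib.Block.CoprimeCover

/-!
# Character triples

The finite central extension over an invariant character of a normal subgroup of order prime to `p`, the
correspondence of the characters over the character with those of the quotient having a fixed restriction
to the central kernel, and the sums over these.
-/

set_option autoImplicit false
set_option linter.unusedSectionVars false

open scoped ComplexConjugate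

namespace CfsgLib.Block.AbelianIso

open Cfsg CfsgLib CfsgLib.Block

universe u

/-- The extension of an invariant character to a finite central extension. -/
theorem exists_triple {p : ℕ} [hp : Fact p.Prime] {G : Type u} [Group G] [Fintype G] (N : Subgroup G)
    [N.Normal] [Fintype N] (hN : ¬ p ∣ Nat.card N) (θ : IrrCharacter N)
    (hinv : ∀ g : G, Char.conjFun N (θ : N → ℂ) g = θ) :
    ∃ (E : Type u) (_ : Group E) (_ : Fintype E) (π : E →* G) (j : N →* E) (d : ℕ)
      (σ : Representation ℂ E (Fin d → ℂ)) (w : π.ker →* ℂ),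
      Function.Surjective π ∧ (∀ n : N, π (j n) = n) ∧ j.range.Normal ∧
      (∀ z ∈ π.ker, ∀ e : E, z * e = e * z) ∧ ¬ p ∣ Nat.card π.ker ∧
      Representation.IsIrreducible (σ.comp j : Representation ℂ N (Fin d → ℂ)) ∧ σ.IsIrreducible ∧
      (∀ n : N, σ.character (j n) = (θ : N → ℂ) n) ∧
      ∀ z : π.ker, σ z = w z • 1 := by
  classical
  obtain ⟨d, ρ, hρ, hθ⟩ := θ.2
  haveI := hρ
  have hinv' : Char.IsInvariant N ρ := fun g n => by
    rw [hθ]; exact congrFun (hinv g) n
  haveI := Char.finite_finExt N ρ hinv'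
  let E := Char.finExt N ρ
  letI : Fintype E := Fintype.ofFinite E
  let π : E →* G := (Char.extProj N ρ).comp E.subtype
  have hπ : Function.Surjective π := Char.finExt_proj_surjective N ρ hinv'
  let j : N →* E := (Char.extEmb N ρ).codRestrict _ (Char.extEmb_mem_finExt N ρ)
  have hπj : ∀ n : N, π (j n) = n := fun n => rfl
  have hNs : j.range.Normal := ⟨by
    rintro _ ⟨n, rfl⟩ e
    exact ⟨Char.normalConjHom N (π e) n, Subtype.ext (Char.extEmb_conj N ρ e n).symm⟩⟩
  have hKc : ∀ k ∈ π.ker, ∀ e : E, k * e = e * k := fun k hk e => by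
    obtain ⟨c, hc⟩ := Char.eq_scal_of_proj_eq_one N ρ (MonoidHom.mem_ker.1 hk)
    replace hc : (k : Char.extGroup N ρ) = Char.extScal N ρ c := hc
    refine Subtype.ext ?_
    show (k : Char.extGroup N ρ) * e = e * k
    rw [hc, Char.extScal_comm]
  have hdN : d ∣ Nat.card N := Char.degree_dvd_card θ (by rw [← hθ]; simp)
  have hoN : orderOf (Char.detHom ρ) ∣ Nat.card N := orderOf_dvd_of_pow_eq_one
    (MonoidHom.ext fun n => by
      rw [MonoidHom.pow_apply, ← map_pow, pow_card_eq_one', map_one, MonoidHom.one_apply])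
  have hKp : ¬ p ∣ Nat.card π.ker := by
    intro h
    obtain ⟨k, hk⟩ := exists_prime_orderOf_dvd_card' (G := π.ker) p h
    obtain ⟨c, hc⟩ := Char.eq_scal_of_proj_eq_one N ρ (MonoidHom.mem_ker.1 k.2)
    replace hc : ((k : E) : Char.extGroup N ρ) = Char.extScal N ρ c := hc
    have hcp : c ^ p = 1 := by
      have h1 := congrArg (fun z : π.ker => ((z : E) : Char.extGroup N ρ)) (hk ▸ pow_orderOf_eq_one k : k ^ p = 1)
      simp only [SubmonoidClass.coe_pow, OneMemClass.coe_one] at h1
      rw [hc, ← map_pow] at h1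
      have h2 := congrArg (Char.extOp N ρ) h1
      rw [Char.extOp_scal, map_one] at h2
      haveI := Char.nontrivial_coord N ρ
      exact Char.scalU_injective _ (h2.trans (map_one _).symm)
    have hco : Nat.Coprime p (d * orderOf (Char.detHom ρ)) :=
      Nat.Coprime.mul_right (hp.out.coprime_iff_not_dvd.2 fun h => hN (h.trans hdN))
        (hp.out.coprime_iff_not_dvd.2 fun h => hN (h.trans hoN))
    have hc1 : c = 1 := by
      have h1 := Char.scal_mem_finExt_pow N ρ (hc ▸ (k : E).2 : Char.extScal N ρ c ∈ Char.finExt N ρ)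
      rw [← orderOf_eq_one_iff]
      exact Nat.eq_one_of_dvd_coprimes hco (orderOf_dvd_of_pow_eq_one hcp) (orderOf_dvd_of_pow_eq_one h1)
    rw [hc1, map_one] at hc
    rw [show k = 1 from Subtype.ext (Subtype.ext hc), orderOf_one] at hk
    exact hp.out.one_lt.ne hk
  let σ : Representation ℂ E (Fin d → ℂ) := (Units.coeHom _).comp ((Char.extOp N ρ).comp E.subtype)
  have hσj : ∀ n, σ (j n) = ρ n := fun n => by
    show ((Char.extOp N ρ (Char.extEmb N ρ n)) : (Fin d → ℂ) →ₗ[ℂ] (Fin d → ℂ)) = _
    rw [Char.extOp_emb]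
    rfl
  haveI hσ : σ.IsIrreducible := Char.irreducible_of_comp_eq σ ρ j hσj
  have hcomp : Representation.IsIrreducible (σ.comp j : Representation ℂ N (Fin d → ℂ)) := by
    rw [show (σ.comp j : Representation ℂ N (Fin d → ℂ)) = ρ from MonoidHom.ext hσj]
    infer_instance
  have hcen : ∀ z : π.ker, (z : E) ∈ Subgroup.center E := fun z =>
    Subgroup.mem_center_iff.2 fun e => (hKc z z.2 e).symm
  obtain ⟨lam, hlam⟩ := Char.exists_central_hom σ
  let w : π.ker →* ℂ := ((Units.coeHom ℂ).comp lam).comp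
    (π.ker.subtype.codRestrict (Subgroup.center E) hcen)
  exact ⟨E, inferInstance, inferInstance, π, j, d, σ, w, hπ, hπj, hNs, hKc, hKp, hcomp, hσ,
    fun n => by rw [Representation.character, hσj, ← congrFun hθ n]; rfl,
    fun z => hlam ⟨z, hcen z⟩⟩

/-- A central element multiplies an irreducible character by a scalar. -/
theorem irr_central_mul {A : Type u} [Group A] [Finite A] (χ : IrrCharacter A) {z : A}
    (hz : z ∈ Subgroup.center A) (a : A) :
    (χ : A → ℂ) (z * a) * (χ : A → ℂ) 1 = (χ : A → ℂ) z * (χ : A → ℂ) a := by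
  obtain ⟨n, ρ, hρ, hχ⟩ := χ.2
  haveI := hρ
  obtain ⟨c, hc⟩ := Char.exists_scalar_of_mem_center ρ hz
  simp only [← hχ, Representation.character, map_mul, hc, map_one, Module.End.mul_eq_comp,
    LinearMap.smul_comp, LinearMap.id_comp, map_smul, LinearMap.trace_id, LinearMap.trace_one, smul_eq_mul]
  ring

section Allowed

variable {A G Q : Type u} [Group A] [Group G] [Group Q] (φ : A →* G) (q : A →* Q)

/-- The characters of the quotient with the given restriction to the central kernel. -/
def allowed (w : φ.ker →* ℂ) : Set (IrrCharacter Q) :=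
  {lam | ∀ z : φ.ker, w z * (lam : Q → ℂ) (q z) = (lam : Q → ℂ) 1}

variable {φ q}

/-- The sum over the allowed characters. -/
theorem sum_allowed [Fintype A] [Fintype Q] [Fintype (IrrCharacter Q)] [Fintype φ.ker] (w : φ.ker →* ℂ)
    [DecidablePred (· ∈ allowed φ q w)] (hc : ∀ z : φ.ker, q z ∈ Subgroup.center Q) (a b : Q) :
    (Nat.card φ.ker : ℂ) * ∑ lam ∈ Finset.univ.filter (· ∈ allowed φ q w), (lam : Q → ℂ) a * (lam : Q → ℂ) b =
      ∑ z : φ.ker, w z * ∑ lam : IrrCharacter Q, (lam : Q → ℂ) (q z * a) * (lam : Q → ℂ) b := by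
  classical
  simp only [Finset.mul_sum]
  rw [Finset.sum_comm (f := fun (z : φ.ker) (lam : IrrCharacter Q) =>
    w z * ((lam : Q → ℂ) (q z * a) * (lam : Q → ℂ) b)), Finset.sum_filter]
  refine Finset.sum_congr rfl fun lam _ => ?_
  have h1 := Char.irr_one_ne_zero lam
  let f : φ.ker →* ℂ :=
    { toFun := fun z => w z * ((lam : Q → ℂ) (q z) / (lam : Q → ℂ) 1)
      map_one' := by simp [h1]
      map_mul' := fun x y => by
        have h2 := irr_central_mul lam (hc x) (q (y : A))
        rw [map_mul, Subgroup.coe_mul, map_mul q]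
        field_simp
        linear_combination (w x * w y) * h2 }
  have hsum : ∑ z : φ.ker, w z * ((lam : Q → ℂ) (q z * a) * (lam : Q → ℂ) b) =
      (∑ z : φ.ker, f z) * ((lam : Q → ℂ) a * (lam : Q → ℂ) b) := by
    rw [Finset.sum_mul]
    refine Finset.sum_congr rfl fun z _ => ?_
    have h2 := irr_central_mul lam (hc z) a
    show _ = w z * ((lam : Q → ℂ) (q z) / (lam : Q → ℂ) 1) * _
    field_simp
    linear_combination w z * (lam : Q → ℂ) b * h2
  rw [hsum, sum_hom_units f]
  have hiff : f = 1 ↔ lam ∈ allowed φ q w := by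
    constructor
    · intro h z
      have : w z * ((lam : Q → ℂ) (q z) / (lam : Q → ℂ) 1) = 1 := DFunLike.congr_fun h z
      field_simp at this
      linear_combination this
    · intro h
      refine MonoidHom.ext fun z => ?_
      show w z * ((lam : Q → ℂ) (q z) / (lam : Q → ℂ) 1) = 1
      rw [← mul_div_assoc, h z, div_self h1]
  by_cases hl : lam ∈ allowed φ q w
  · rw [if_pos hl, if_pos (hiff.2 hl), Nat.card_eq_fintype_card]
  · rw [if_neg hl, if_neg (mt hiff.1 hl), Nat.cast_zero, zero_mul]

/-- The characters over the restricted character are the products with the allowed characters. -/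
theorem exists_twist [Fintype A] [Fintype G] [Fintype Q] (hφ : Function.Surjective φ)
    (hq : Function.Surjective q) [Fintype q.ker] (Θ : IrrCharacter A) (w : φ.ker →* ℂ)
    (hw : ∀ (z : φ.ker) (a : A), (Θ : A → ℂ) ((z : A) * a) = w z * (Θ : A → ℂ) a)
    {K : Subgroup G} [Fintype K] (θ : IrrCharacter K) (e : q.ker ≃* K)
    (he1 : ∀ n, ((e n : K) : G) = φ n) (he2 : ∀ n : q.ker, (Θ : A → ℂ) n = (θ : K → ℂ) (e n)) :
    ∃ J : IrrCharacter Q → IrrCharacter G, Set.BijOn J (allowed φ q w) (CoprimeCover.overSet θ) ∧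
      ∀ lam ∈ allowed φ q w, ∀ a, (J lam : G → ℂ) (φ a) = (Θ : A → ℂ) a * (lam : Q → ℂ) (q a) := by
  classical
  have hΘN : IsIrrCharacter q.ker (fun n : q.ker => (Θ : A → ℂ) n) := by
    rw [show (fun n : q.ker => (Θ : A → ℂ) n) = fun n : q.ker => (θ : K → ℂ) (e n) from funext he2]
    exact Char.isIrrCharacter_comp_surjective θ.2 e.toMonoidHom e.surjective
  have hconst : ∀ (f : Q → ℂ) (n : q.ker) (x : A), f (q ((n : A) * x)) = f (q x) := fun f n x => by
    rw [map_mul, MonoidHom.mem_ker.1 n.2, one_mul]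
  have hiso : ∀ f h : Q → ℂ,
      classInner (fun x : A => (Θ : A → ℂ) x * f (q x)) (fun x : A => (Θ : A → ℂ) x * h (q x)) =
        classInner f h := fun f h => by
    rw [← Weight.classInner_comp_surjective q hq f h, ← Char.classInner_equiv Subgroup.topEquiv,
      ← Char.classInner_equiv Subgroup.topEquiv (fun x : A => f (q x))]
    exact FongSwan.classInner_mul_extension q.ker Θ hΘN le_top (fun x => f (q x)) (fun x => h (q x))
      (hconst f) (hconst h)
  have hex : ∀ lam ∈ allowed φ q w, ∃ χ : IrrCharacter G,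
      ∀ a, (χ : G → ℂ) (φ a) = (Θ : A → ℂ) a * (lam : Q → ℂ) (q a) := by
    intro lam hlam
    let Lam : A → ℂ := fun a => (Θ : A → ℂ) a * (lam : Q → ℂ) (q a)
    have hLam : IsIrrCharacter A Lam := Char.isIrr_of_isCharacter_norm_one
      (Char.isCharacter_mul (Char.isCharacter_irr Θ) (Char.isCharacter_comp (Char.isCharacter_irr lam) q))
      (by rw [hiso, Char.classInner_irr_self])
    have hLK : ∀ z ∈ φ.ker, Lam z = Lam 1 := fun z hz => by
      have h1 := hw ⟨z, hz⟩ 1
      rw [mul_one] at h1
      simp only [Lam, h1, map_one]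
      linear_combination (Θ : A → ℂ) 1 * hlam ⟨z, hz⟩
    obtain ⟨χ', hχ', hval⟩ := Char.exists_isIrr_quotient hLam φ.ker hLK
    let ee := QuotientGroup.quotientKerEquivOfSurjective φ hφ
    refine ⟨⟨fun g => χ' (ee.symm g), Char.isIrrCharacter_comp_surjective hχ' ee.symm.toMonoidHom
      ee.symm.surjective⟩, fun a => ?_⟩
    show χ' (ee.symm (φ a)) = _
    rw [show φ a = ee (a : A ⧸ φ.ker) from rfl, ee.symm_apply_apply]
    exact hval a
  haveI : Nonempty (IrrCharacter G) := ⟨⟨fun _ => 1, Char.isIrrCharacter_one⟩⟩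
  choose! J hJ using hex
  refine ⟨J, ⟨fun lam hlam => ?_, fun lam hlam lam' hlam' h => ?_, fun χ hχ => ?_⟩, hJ⟩
  · show classInner (fun n : K => (J lam : G → ℂ) n) (θ : K → ℂ) ≠ 0
    rw [show (fun n : K => (J lam : G → ℂ) n) = ((lam : Q → ℂ) 1) • (θ : K → ℂ) from funext fun n => by
      obtain ⟨m, rfl⟩ := e.surjective n
      rw [he1, hJ lam hlam, he2, MonoidHom.mem_ker.1 m.2, Pi.smul_apply, smul_eq_mul, mul_comm],
      Char.classInner_smul_left, Char.classInner_irr_self, mul_one]
    exact Char.irr_one_ne_zero lam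
  · have h1 : classInner (lam : Q → ℂ) (lam' : Q → ℂ) = 1 := by
      rw [← hiso, ← funext (hJ lam hlam), ← funext (hJ lam' hlam'),
        Weight.classInner_comp_surjective φ hφ, h, Char.classInner_irr_self]
    by_contra hne
    rw [Char.classInner_irr_ne hne] at h1
    exact zero_ne_one h1
  · let χA : IrrCharacter A := ⟨fun a => (χ : G → ℂ) (φ a), Char.isIrrCharacter_comp_surjective χ.2 φ hφ⟩
    have hne : classInner (fun n : q.ker => (χA : A → ℂ) n) (fun n : q.ker => (Θ : A → ℂ) n) ≠ 0 := by
      rw [show (fun n : q.ker => (χA : A → ℂ) n) = fun n : q.ker => (χ : G → ℂ) (e n) from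
        funext fun n => congrArg (χ : G → ℂ) (he1 n).symm, funext he2,
        Char.classInner_equiv e (fun n : K => (χ : G → ℂ) n) (θ : K → ℂ)]
      exact hχ
    obtain ⟨hirr, heq⟩ := Char.gallagher q.ker Θ hΘN χA hne
    obtain ⟨lam₀, hlam₀, hval⟩ := Char.exists_isIrr_quotient hirr q.ker fun z hz => by
      have := Char.cosetAvg_mul_left q.ker (fun x => (χA : A → ℂ) x * conj ((Θ : A → ℂ) x)) ⟨z, hz⟩ 1
      rw [mul_one] at this
      exact this
    let eq := QuotientGroup.quotientKerEquivOfSurjective q hq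
    let lam : IrrCharacter Q := ⟨fun y => lam₀ (eq.symm y), Char.isIrrCharacter_comp_surjective hlam₀
      eq.symm.toMonoidHom eq.symm.surjective⟩
    have hrel : ∀ a, (χ : G → ℂ) (φ a) = (Θ : A → ℂ) a * (lam : Q → ℂ) (q a) := fun a => by
      refine (congrFun heq a).trans ?_
      show _ = _ * lam₀ (eq.symm (q a))
      rw [show q a = eq (a : A ⧸ q.ker) from rfl, eq.symm_apply_apply, hval]
      rfl
    have hmem : lam ∈ allowed φ q w := fun z => by
      have h1 := hrel z
      have h2 := hw z 1
      rw [mul_one] at h2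
      rw [MonoidHom.mem_ker.1 z.2, ← map_one φ, hrel 1, h2, map_one] at h1
      have h3 := Char.irr_one_ne_zero Θ
      refine mul_left_cancel₀ h3 ?_
      linear_combination -h1
    refine ⟨lam, hmem, Subtype.ext (funext fun g => ?_)⟩
    obtain ⟨a, rfl⟩ := hφ g
    rw [hJ lam hmem, hrel]

end Allowed

section Local

variable {p : ℕ} [hp : Fact p.Prime]

/-- Regularity through a kernel of order prime to `p`. -/
theorem isPRegular_map_iff {A B : Type u} [Group A] [Group B] [Finite A] (f : A →* B)
    (hf : ¬ p ∣ Nat.card f.ker) (a : A) : IsPRegular p (f a) ↔ IsPRegular p a := by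
  refine ⟨fun h hd => ?_, fun h hd => h (hd.trans (orderOf_map_dvd f a))⟩
  have h1 : orderOf a ∣ orderOf (f a) * Nat.card f.ker := orderOf_dvd_of_pow_eq_one (by
    have hk : a ^ orderOf (f a) ∈ f.ker := by rw [MonoidHom.mem_ker, map_pow, pow_orderOf_eq_one]
    rw [pow_mul]
    exact congrArg Subtype.val (pow_card_eq_one' (x := (⟨_, hk⟩ : f.ker))))
  rcases hp.out.dvd_mul.1 (hd.trans h1) with e | e
  · exact h e
  · exact hf e

/-- A `p`-element times a central element of order prime to `p` is a `p`-element only if that is one. -/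
theorem eq_one_of_pow_mul {A : Type u} [Group A] {Z : Subgroup A} [Finite Z] (hZ : ¬ p ∣ Nat.card Z)
    {z : A} (hz : z ∈ Z) {n : ℕ} (h : z ^ p ^ n = 1) : z = 1 := by
  have h1 : orderOf z ∣ Nat.card Z := by
    have := orderOf_dvd_natCard (⟨z, hz⟩ : Z)
    rwa [Subgroup.orderOf_mk] at this
  exact orderOf_eq_one_iff.1 (Nat.eq_one_of_dvd_coprimes
    ((hp.out.coprime_iff_not_dvd.2 hZ).pow_left n) (orderOf_dvd_of_pow_eq_one h) h1)

/-- The centraliser in the quotient has at least the `p`-part of the centraliser in `G`. -/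
theorem card_centralizer_div_mem (M : Ideal AlgInt) [M.IsMaximal] (hM : IsPModular p M) {A G Q : Type u}
    [Group A] [Group G] [Group Q] [Finite A] [Finite G] [Finite Q] (φ : A →* G)
    (hφ : Function.Surjective φ) (hz : ∀ z ∈ φ.ker, ∀ a : A, z * a = a * z) (hpz : ¬ p ∣ Nat.card φ.ker)
    (q : A →* Q) (hq : ¬ p ∣ Nat.card q.ker) (a : A) :
    (Nat.card (Subgroup.centralizer ({q a} : Set Q)) : ℂ) /
      Nat.card (Subgroup.centralizer ({φ a} : Set G)) ∈ locRing M := by
  classical
  set C := Subgroup.centralizer ({φ a} : Set G) with hC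
  obtain ⟨D⟩ : Nonempty (Sylow p C) := inferInstance
  set D' := ((D : Subgroup C).map C.subtype).comap φ with hD'
  obtain ⟨S⟩ : Nonempty (Sylow p D') := inferInstance
  let S' : Subgroup A := (S : Subgroup D').map D'.subtype
  have hS' : IsPGroup p S' := S.isPGroup'.map _
  have hcent : ∀ u ∈ S', u * a = a * u := by
    intro u hu
    obtain ⟨n, hn⟩ := hS' ⟨u, hu⟩
    have hn' : u ^ p ^ n = 1 := congrArg Subtype.val hn
    clear hn
    obtain ⟨u', -, rfl⟩ := hu
    obtain ⟨c, -, hc⟩ := Subgroup.mem_comap.1 u'.2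
    have h1 : φ (u' : A) * φ a = φ a * φ (u' : A) :=
      hc ▸ Subgroup.mem_centralizer_singleton_iff.1 c.2
    set u : A := (u' : A)
    set z := u * a * u⁻¹ * a⁻¹ with hzd
    have hzk : z ∈ φ.ker := by
      rw [MonoidHom.mem_ker, hzd, map_mul, map_mul, map_mul, h1, map_inv, map_inv]
      group
    have hconj : ∀ i : ℕ, u ^ i * a * (u ^ i)⁻¹ = z ^ i * a := by
      intro i
      induction i with
      | zero => simp
      | succ i ih =>
        have hcomm : u * z ^ i = z ^ i * u := (hz _ (pow_mem hzk i) u).symm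
        calc u ^ (i + 1) * a * (u ^ (i + 1))⁻¹ = u * (u ^ i * a * (u ^ i)⁻¹) * u⁻¹ := by
              rw [pow_succ']; group
          _ = u * z ^ i * a * u⁻¹ := by rw [ih]; group
          _ = z ^ i * (u * a * u⁻¹ * a⁻¹) * a := by rw [hcomm]; group
          _ = z ^ (i + 1) * a := by rw [← hzd, pow_succ]
    have hun : u ^ p ^ n = 1 := hn'
    have hz1 : z ^ p ^ n = 1 := by
      have := hconj (p ^ n)
      rw [hun] at this
      simpa using this.symm
    have := eq_one_of_pow_mul hpz hzk hz1
    rwa [hzd, mul_inv_eq_one, mul_inv_eq_iff_eq_mul] at this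
  let f : S' →* Subgroup.centralizer ({q a} : Set Q) := (q.comp S'.subtype).codRestrict _ fun u =>
    Subgroup.mem_centralizer_singleton_iff.2 (by
      simp only [MonoidHom.comp_apply, Subgroup.coe_subtype]
      rw [← map_mul, hcent u u.2, map_mul])
  have hf : Function.Injective f := (injective_iff_map_eq_one f).2 fun u hu => by
    obtain ⟨n, hn⟩ := hS' u
    exact Subtype.ext (eq_one_of_pow_mul hq (MonoidHom.mem_ker.2 (congrArg Subtype.val hu))
      (congrArg Subtype.val hn))
  have hdvd : Nat.card S' ∣ Nat.card (Subgroup.centralizer ({q a} : Set Q)) :=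
    Subgroup.card_dvd_of_injective f hf
  have hD : Nat.card S' = Nat.card (D : Subgroup C) := by
    rw [Subgroup.card_map_of_injective D'.subtype_injective, S.card_eq_multiplicity,
      D.card_eq_multiplicity]
    congr 1
    have h2 : Nat.card D' = Nat.card φ.ker * Nat.card ((D : Subgroup C).map C.subtype) := by
      rw [← Subgroup.card_mul_index (φ.ker.subgroupOf D'),
        Nat.card_congr (Subgroup.subgroupOfEquivOfLe (Subgroup.ker_le_comap φ _)).toEquiv]
      congr 1
      rw [← Subgroup.relIndex, ← MonoidHom.comap_bot, hD', Subgroup.relIndex_comap,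
        Subgroup.map_comap_eq_self_of_surjective hφ, Subgroup.relIndex_bot_left]
    rw [h2, Subgroup.card_map_of_injective C.subtype_injective, D.card_eq_multiplicity,
      Nat.factorization_mul Nat.card_pos.ne' (pow_ne_zero _ hp.out.ne_zero), Finsupp.add_apply,
      Nat.factorization_eq_zero_of_not_dvd hpz, zero_add, hp.out.factorization_pow, Finsupp.single_eq_same]
  obtain ⟨t, ht⟩ := hdvd
  have hidx : ¬ p ∣ (D : Subgroup C).index := D.not_dvd_index
  rw [ht, ← Subgroup.card_mul_index (D : Subgroup C), hD, Nat.cast_mul, Nat.cast_mul,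
    mul_div_mul_left _ _ (Nat.cast_ne_zero.2 Nat.card_pos.ne'), div_eq_mul_inv]
  exact mul_mem (natCast_mem _ t) (inv_natCast_mem hM hidx)

end Local

end CfsgLib.Block.AbelianIso
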