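import Cfsg.Agent.Lib.Block.AbelianIso.Full
import Cfsg.Agent.Lib.Block.AbelianIso.Triple
import Cfsg.Agent.Lib.Block.GenericPoint.Chain

/-!
# The correspondent of an extension

Over an abelian Sylow `p`-subgroup `P` the extension of an invariant character of a normal `p'`-subgroup
`K` to a central extension has a correspondent: an extension of the correspondent character of the
centraliser of `P` in `K` to the preimage of the normaliser of `P`, with the same central character.
-/

set_option autoImplicit false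
set_option linter.unusedSectionVars false

open scoped ComplexConjugate

namespace CfsgLib.Block.AbelianIso

open Cfsg CfsgLib CfsgLib.Block
open scoped Pair

universe u

variable {p : ℕ} [hp : Fact p.Prime] {M : Ideal AlgInt} [M.IsMaximal]

theorem isReduction_comp {H H' : Type u} [Group H] [Finite H] [Group H'] [Finite H'] {n : ℕ}
    {ρ : Representation ℂ H (Fin n → ℂ)} {σ : H →* Module.End (RedField M) (Fin n → RedField M)}
    (h : IsReduction ρ σ) (i : H' →* H) :
    IsReduction (ρ.comp i : Representation ℂ H' (Fin n → ℂ)) (σ.comp i) :=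
  ⟨fun g => h.trace_eq (i g), fun z w hw hz => h.scalar (i z) w hw hz,
    fun A _ _ i' hirr a => h.recon A (i.comp i') hirr a⟩

/-- The lift of a Sylow subgroup along a central extension by a group of order prime to `p`. -/
theorem exists_lift {E G : Type u} [Group E] [Finite E] [Group G] [Finite G] (π : E →* G)
    (hπ : Function.Surjective π) (hZ : ∀ z ∈ π.ker, ∀ e : E, z * e = e * z) (hpZ : ¬ p ∣ Nat.card π.ker)
    {P : Subgroup G} (hP : IsPGroup p P) (hPi : ¬ p ∣ P.index) :
    ∃ Ph : Subgroup E, IsPGroup p Ph ∧ ¬ p ∣ Ph.index ∧ (∀ u ∈ Ph, π u ∈ P) ∧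
      (∀ x ∈ P, ∃ u ∈ Ph, π u = x) ∧ (∀ u ∈ Ph, π u = 1 → u = 1) ∧
      ∀ y : E, π y ∈ P → ∀ n : ℕ, y ^ p ^ n = 1 → y ∈ Ph := by
  classical
  obtain ⟨S⟩ : Nonempty (Sylow p (P.comap π)) := inferInstance
  let Ph : Subgroup E := (S : Subgroup (P.comap π)).map (P.comap π).subtype
  have hPh : IsPGroup p Ph := S.isPGroup'.map _
  have hmem : ∀ u ∈ Ph, π u ∈ P := by
    rintro _ ⟨u, -, rfl⟩
    exact u.2
  have hinj : ∀ u ∈ Ph, π u = 1 → u = 1 := fun u hu h => by
    obtain ⟨n, hn⟩ := hPh ⟨u, hu⟩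
    exact eq_one_of_pow_mul hpZ h (congrArg Subtype.val hn)
  have hD : Nat.card (P.comap π) = Nat.card π.ker * Nat.card P := by
    rw [← Subgroup.card_mul_index (π.ker.subgroupOf (P.comap π)),
      Nat.card_congr (Subgroup.subgroupOfEquivOfLe (Subgroup.ker_le_comap π _)).toEquiv]
    congr 1
    rw [← Subgroup.relIndex, ← MonoidHom.comap_bot, Subgroup.relIndex_comap,
      Subgroup.map_comap_eq_self_of_surjective hπ, Subgroup.relIndex_bot_left]
  have hcard : Nat.card Ph = Nat.card P := by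
    obtain ⟨i, hi⟩ := IsPGroup.iff_card.1 hP
    rw [Subgroup.card_map_of_injective (P.comap π).subtype_injective, S.card_eq_multiplicity, hD, hi,
      Nat.factorization_mul Nat.card_pos.ne' (pow_ne_zero _ hp.out.ne_zero), Finsupp.add_apply,
      Nat.factorization_eq_zero_of_not_dvd hpZ, zero_add, hp.out.factorization_pow, Finsupp.single_eq_same]
  let f : Ph →* P := (π.comp Ph.subtype).codRestrict P fun u => hmem u u.2
  have hf : Function.Injective f := (injective_iff_map_eq_one f).2 fun u hu =>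
    Subtype.ext (hinj u u.2 (congrArg Subtype.val hu))
  have hfs : Function.Surjective f :=
    ((Nat.bijective_iff_injective_and_card f).2 ⟨hf, hcard⟩).2
  have hsurj : ∀ x ∈ P, ∃ u ∈ Ph, π u = x := fun x hx => by
    obtain ⟨u, hu⟩ := hfs ⟨x, hx⟩
    exact ⟨u, u.2, congrArg Subtype.val hu⟩
  refine ⟨Ph, hPh, ?_, hmem, hsurj, hinj, fun y hy n hn => ?_⟩
  · have h1 : Ph.index * Nat.card P = P.index * Nat.card π.ker * Nat.card P := by
      rw [← hcard, Subgroup.index_mul_card, hcard, mul_right_comm, Subgroup.index_mul_card, mul_comm]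
      rw [← Subgroup.index_mul_card π.ker, Subgroup.index_ker, MonoidHom.range_eq_top.2 hπ,
        Subgroup.card_top, mul_comm]
    rw [Nat.eq_of_mul_eq_mul_right Nat.card_pos h1]
    exact fun h => (hp.out.dvd_mul.1 h).elim hPi hpZ
  · obtain ⟨v, hv, hvy⟩ := hsurj _ hy
    have hz : v⁻¹ * y ∈ π.ker := by rw [MonoidHom.mem_ker, map_mul, map_inv, hvy, inv_mul_cancel]
    obtain ⟨m, hm⟩ := hPh ⟨v, hv⟩
    have hm' : v ^ p ^ m = 1 := congrArg Subtype.val hm
    have hc : Commute v⁻¹ y := by
      have h1 := hZ _ hz v⁻¹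
      have : y * v⁻¹ = v⁻¹ * y := mul_left_cancel (a := v⁻¹) (by rw [← mul_assoc]; exact h1)
      exact this.symm
    have h1 : (v⁻¹ * y) ^ p ^ (n + m) = 1 := by
      rw [hc.mul_pow, inv_pow]
      simp [pow_add, pow_mul, hn, hm', pow_right_comm v (p ^ n)]
    have h2 := eq_one_of_pow_mul hpZ hz h1
    rw [inv_mul_eq_one] at h2
    exact h2 ▸ hv

variable {G : Type u} [Group G] [Fintype G] [DecidableEq G] {K : Subgroup G} [K.Normal] [Fintype K]
  {P : Subgroup G}

/-- The correspondent extension. -/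
theorem exists_extension_star (hM : IsPModular p M) (hK : ¬ p ∣ Nat.card K) (θ : IrrCharacter K)
    (hinv : ∀ g : G, cjN g θ = θ) (hP : IsPGroup p P) (hPi : ¬ p ∣ P.index)
    (hPab : ∀ x ∈ P, ∀ y ∈ P, x * y = y * x) {C : Subgroup G}
    (hC : C = K ⊓ Subgroup.centralizer (P : Set G)) (θs : IrrCharacter C)
    (hθs : omG M θs (eG M ({θ} : Set (IrrCharacter K))) = 1)
    {E : Type u} [Group E] [Fintype E] (π : E →* G) (hπ : Function.Surjective π) (j : K →* E)
    (hπj : ∀ k : K, π (j k) = k) (hjn : j.range.Normal) (hZ : ∀ z ∈ π.ker, ∀ e : E, z * e = e * z)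
    (hpZ : ¬ p ∣ Nat.card π.ker) {d : ℕ} (ρ : Representation ℂ E (Fin d → ℂ))
    (hρj : Representation.IsIrreducible (ρ.comp j : Representation ℂ K (Fin d → ℂ)))
    (hρθ : ∀ k : K, ρ.character (j k) = (θ : K → ℂ) k) (w : π.ker →* ℂ) (hw : ∀ z : π.ker, ρ z = w z • 1) :
    ∃ Θs : IrrCharacter ((Subgroup.normalizer (P : Set G)).comap π),
      (∀ (c : C) (a : (Subgroup.normalizer (P : Set G)).comap π) (h : (c : G) ∈ K),
        (a : E) = j ⟨c, h⟩ → (Θs : _ → ℂ) a = (θs : C → ℂ) c) ∧
      ∀ (z : π.ker) (a b : (Subgroup.normalizer (P : Set G)).comap π), (b : E) = z * a →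
        (Θs : _ → ℂ) b = w z * (Θs : _ → ℂ) a := by
  classical
  haveI := charP_redField M hM
  obtain ⟨Ph, hPh, hPhi, hmem, hsurj, hinj, hlift⟩ := exists_lift π hπ hZ hpZ hP hPi
  set A := (Subgroup.normalizer (P : Set G)).comap π with hA
  letI : Fintype A := Fintype.ofFinite A
  obtain ⟨σ, hσ⟩ := exists_reduction (M := M) ρ
  have hpow : ∀ u ∈ Ph, ∃ n : ℕ, u ^ p ^ n = 1 := fun u hu => by
    obtain ⟨n, hn⟩ := hPh ⟨u, hu⟩
    exact ⟨n, congrArg Subtype.val hn⟩
  have hPhab : ∀ x ∈ Ph, ∀ y ∈ Ph, x * y = y * x := fun x hx y hy => by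
    have h1 := hinj (x * y * x⁻¹ * y⁻¹) (mul_mem (mul_mem (mul_mem hx hy) (inv_mem hx)) (inv_mem hy)) (by
      rw [map_mul, map_mul, map_mul, hPab _ (hmem x hx) _ (hmem y hy), map_inv, map_inv]
      group)
    rwa [mul_inv_eq_one, mul_inv_eq_iff_eq_mul] at h1
  -- reduction on `K`
  have hred : IsReduction (ρ.comp j : Representation ℂ K (Fin d → ℂ)) (σ.comp j) := isReduction_comp hσ j
  haveI := hρj
  have hrec := recon_of_isReduction hred
  have hKne := natCast_card_ne_zero hM hK
  have hunit : ∑ k : K, resUp M (coeffRes M ({θ} : Set (IrrCharacter K)) k) • σ (j k) = 1 := by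
    rw [← hrec.sum_unitCoeff hKne]
    exact Finset.sum_congr rfl fun k _ => by
      rw [unitCoeff_eq_resUp hM hK hred θ (funext hρθ), MonoidHom.comp_apply]
  have hjinj : Function.Injective j := fun a b h => Subtype.ext (by rw [← hπj a, h, hπj])
  have hd : 0 < d := Nat.pos_of_ne_zero fun h => by
    subst h
    exact not_nontrivial (Fin 0 → ℂ) (Char.nontrivial_of_irreducible (ρ.comp j : Representation ℂ K (Fin 0 → ℂ)))
  have hfull : Submodule.span (RedField M) (Set.range (σ.comp j.range.subtype)) = ⊤ := by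
    refine eq_top_iff.2 ((hrec.full hKne).ge.trans (Submodule.span_mono ?_))
    rintro _ ⟨k, rfl⟩
    exact ⟨⟨j k, k, rfl⟩, rfl⟩
  have hjK : (Nat.card j.range : RedField M) ≠ 0 := by
    rwa [← Nat.card_congr (j.ofInjective hjinj).toEquiv]
  haveI := hjn
  obtain ⟨e, σ', he, hfull', hZ', hY'⟩ := GenericPoint.exists_descendant (p := p) E j.range hd σ Ph hjK
    hfull hPh hPhab
  -- the normaliser of the lift
  have hAN : ∀ a ∈ A, a ∈ Subgroup.normalizer (Ph : Set E) := by
    have key : ∀ a ∈ A, ∀ u ∈ Ph, a * u * a⁻¹ ∈ Ph := fun a ha u hu => by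
      obtain ⟨n, hn⟩ := hpow u hu
      refine hlift _ ?_ n (by rw [conj_pow, hn, mul_one, mul_inv_cancel])
      rw [map_mul, map_mul, map_inv]
      exact (Subgroup.mem_normalizer_iff.1 ha _).1 (hmem u hu)
    exact fun a ha => Subgroup.mem_normalizer_iff.2 fun u => ⟨key a ha u, fun h => by
      simpa [mul_assoc] using key a⁻¹ (inv_mem ha) _ h⟩
  let incl : A →* Subgroup.normalizer (Ph : Set E) := Subgroup.inclusion hAN
  let τ₀ : A →* Module.End (RedField M) (Fin e → RedField M) := σ'.comp incl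
  haveI : Nonempty (Fin e) := ⟨⟨0, he⟩⟩
  have hker : Ph.subgroupOf A ≤ τ₀.ker := fun u hu => by
    obtain ⟨n, hn⟩ := hpow _ (Subgroup.mem_subgroupOf.1 hu)
    refine MonoidHom.mem_ker.2 (GenericPoint.scalar_eq_one (p := p) (n := n) ?_ fun b => ?_)
    · rw [← map_pow, show u ^ p ^ n = 1 from Subtype.ext (by simpa using hn), map_one]
    · have hb : b ∈ Submodule.span (RedField M) (Set.range (σ'.comp
          ((j.range ⊓ Subgroup.centralizer (Ph : Set E)).subgroupOf
            (Subgroup.normalizer (Ph : Set E))).subtype)) := hfull' ▸ Submodule.mem_top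
      induction hb using Submodule.span_induction with
      | mem z hz =>
        obtain ⟨g, rfl⟩ := hz
        show σ' (incl u) * σ' g = σ' g * σ' (incl u)
        rw [← map_mul, ← map_mul]
        congr 1
        exact Subtype.ext ((Subgroup.mem_centralizer_iff.1 (Subgroup.mem_subgroupOf.1 g.2).2) _
          (Subgroup.mem_subgroupOf.1 hu))
      | zero => exact Commute.zero_right _
      | add a b _ _ ha hb => exact ha.add_right hb
      | smul t a _ ha => exact ha.smul_right t
  haveI : (Ph.subgroupOf A).Normal := ⟨fun u hu a => by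
    rw [Subgroup.mem_subgroupOf] at hu ⊢
    exact (Subgroup.mem_normalizer_iff.1 (hAN a a.2) _).1 hu⟩
  let H := A ⧸ Ph.subgroupOf A
  letI : Fintype H := Fintype.ofFinite H
  have hPhA : Ph ≤ A := fun u hu => Subgroup.mem_comap.2 (Subgroup.le_normalizer (hmem u hu))
  have hH : ¬ p ∣ Nat.card H := fun h => hPhi (by
    rw [← Subgroup.relIndex_mul_index hPhA]
    exact dvd_mul_of_dvd_left h _)
  let τ : H →* Module.End (RedField M) (Fin e → RedField M) := QuotientGroup.lift _ τ₀ hker
  have hCK : C ≤ K := hC ▸ inf_le_left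
  have hCN : ∀ c : C, j (Subgroup.inclusion hCK c) ∈ A := fun c => by
    rw [hA, Subgroup.mem_comap, hπj]
    exact Subgroup.centralizer_le_normalizer (P : Set G) ((hC ▸ inf_le_right : C ≤ _) c.2)
  let jA : C →* A := (j.comp (Subgroup.inclusion hCK)).codRestrict A hCN
  let i : C →* H := (QuotientGroup.mk' _).comp jA
  have hcent : ∀ k : K, (k : G) ∈ Subgroup.centralizer (P : Set G) ↔
      j k ∈ Subgroup.centralizer (Ph : Set E) := fun k => by
    refine ⟨fun h => Subgroup.mem_centralizer_iff.2 fun u hu => ?_,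
      fun h => Subgroup.mem_centralizer_iff.2 fun x hx => ?_⟩
    · have hk : j k ∈ A := by
        rw [hA, Subgroup.mem_comap, hπj]
        exact Subgroup.centralizer_le_normalizer (P : Set G) h
      have h1 := hinj (u * j k * u⁻¹ * (j k)⁻¹)
        (by
          rw [show u * j k * u⁻¹ * (j k)⁻¹ = u * (j k * u⁻¹ * (j k)⁻¹) by group]
          exact mul_mem hu ((Subgroup.mem_normalizer_iff.1 (hAN _ hk) _).1 (inv_mem hu)))
        (by
          rw [map_mul, map_mul, map_mul, hπj, map_inv, map_inv, hπj,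
            Subgroup.mem_centralizer_iff.1 h _ (hmem u hu)]
          group)
      rwa [mul_inv_eq_one, mul_inv_eq_iff_eq_mul] at h1
    · obtain ⟨u, hu, rfl⟩ := hsurj x hx
      have := congrArg π (Subgroup.mem_centralizer_iff.1 h u hu)
      rwa [map_mul, map_mul, hπj] at this
  -- the elements of the centraliser in `j K`
  let Cs := (j.range ⊓ Subgroup.centralizer (Ph : Set E)).subgroupOf (Subgroup.normalizer (Ph : Set E))
  let toCs : C → Cs := fun c => ⟨incl (jA c), Subgroup.mem_subgroupOf.2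
    ⟨⟨_, rfl⟩, (hcent _).1 ((hC ▸ inf_le_right : C ≤ _) c.2)⟩⟩
  have htoCs : Function.Bijective toCs := by
    refine ⟨fun a b h => ?_, fun x => ?_⟩
    · have h1 : π (j (Subgroup.inclusion hCK a)) = π (j (Subgroup.inclusion hCK b)) :=
        congrArg (fun x : Cs => π ((x : Subgroup.normalizer (Ph : Set E)) : E)) h
      rw [hπj, hπj] at h1
      exact Subtype.ext h1
    · obtain ⟨⟨k, hk⟩, hx2⟩ := Subgroup.mem_subgroupOf.1 x.2
      refine ⟨⟨k, hC ▸ ⟨k.2, (hcent k).2 ?_⟩⟩, Subtype.ext (Subtype.ext hk)⟩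
      rw [hk]
      exact hx2
  have hfullC : Submodule.span (RedField M) (Set.range (τ.comp i)) = ⊤ := by
    refine eq_top_iff.2 (hfull'.ge.trans (Submodule.span_mono ?_))
    rintro _ ⟨g, rfl⟩
    obtain ⟨c, rfl⟩ := htoCs.2 g
    exact ⟨c, rfl⟩
  have hone : ∑ c : C, resUp M (coeffRes M ({θs} : Set (IrrCharacter C)) c) • τ (i c) = 1 := by
    let y : E → RedField M := fun a =>
      if a ∈ j.range then resUp M ((eG M ({θ} : Set (IrrCharacter K))).coeff (π a)) else 0
    have hy : ∀ v ∈ Ph, ∀ a, y (v * a * v⁻¹) = y a := fun v _ a => by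
      have h1 : v * a * v⁻¹ ∈ j.range ↔ a ∈ j.range := ⟨fun h => by
        simpa [mul_assoc] using hjn.conj_mem _ h v⁻¹, fun h => hjn.conj_mem _ h v⟩
      simp only [y, h1, map_mul, map_inv,
        CoprimeCover.cinv_eG_singleton (M := M) hinv (π v) (Subgroup.mem_top _) (π a)]
    have h1 := hY' y 1 hy (by
      rw [one_smul, ← hunit, ← finsum_eq_sum_of_fintype]
      refine (finsum_eq_of_bijective _ (j.ofInjective hjinj).bijective fun k => ?_).symm
      show _ = y (j k) • σ (j k)
      simp only [y, if_pos (show j k ∈ j.range from ⟨k, rfl⟩), hπj, coeff_eG])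
    rw [one_smul] at h1
    rw [← h1, ← finsum_eq_sum_of_fintype]
    refine finsum_eq_of_bijective toCs htoCs fun c => ?_
    show _ = y (j (Subgroup.inclusion hCK c)) • σ' (incl (jA c))
    simp only [y, if_pos (show j (Subgroup.inclusion hCK c) ∈ j.range from ⟨_, rfl⟩), hπj,
      Subgroup.coe_inclusion]
    rw [← coeff_trC (R := P) _ ((hC ▸ inf_le_right : C ≤ _) c.2),
      CoprimeCover.trC_eG_eq hM hK hinv hC hP hθs, coeff_eG]
    rfl
  obtain ⟨χ, hχ, hχz⟩ := exists_extension_of_full hM hH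
    (fun h => hK (h.trans (Subgroup.card_dvd_of_le hCK))) i θs he τ hfullC hone
  refine ⟨⟨fun a => (χ : H → ℂ) (a : H), Char.isIrrCharacter_comp_surjective χ.2 (QuotientGroup.mk' _)
    (QuotientGroup.mk'_surjective _)⟩, fun c a h ha => ?_, fun z a b hb => ?_⟩
  · show (χ : H → ℂ) (a : H) = _
    rw [show a = jA c from Subtype.ext ha]
    exact hχ c
  · have hzA : (z : E) ∈ A := by
      rw [hA, Subgroup.mem_comap, MonoidHom.mem_ker.1 z.2]
      exact one_mem _
    have hwz : (w z) ^ Nat.card H = 1 := by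
      have h1 : ((⟨z, hzA⟩ : A) : H) ^ Nat.card H = 1 := pow_card_eq_one'
      rw [← QuotientGroup.mk_pow, QuotientGroup.eq_one_iff, Subgroup.mem_subgroupOf] at h1
      have h2 := hinj _ h1 (by simp [MonoidHom.mem_ker.1 z.2])
      rw [← map_pow, show z ^ Nat.card H = 1 from Subtype.ext (by simpa using h2), map_one]
    have hwm : w z ∈ locRing M := integral_mem M
      (Char.isIntegral_of_pow_eq_one Nat.card_pos.ne' hwz)
    have hcz : ((⟨z, hzA⟩ : A) : H) ∈ Subgroup.center H := Subgroup.mem_center_iff.2 fun x => by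
      obtain ⟨a', rfl⟩ := QuotientGroup.mk_surjective x
      rw [← QuotientGroup.mk_mul, ← QuotientGroup.mk_mul]
      exact congrArg _ (Subtype.ext (hZ z z.2 a').symm)
    show (χ : H → ℂ) (b : H) = _
    rw [show b = (⟨z, hzA⟩ : A) * a from Subtype.ext hb, QuotientGroup.mk_mul]
    exact hχz _ (w z) hwm hcz hwz (hZ' (incl ⟨z, hzA⟩) _ (fun g => hZ z z.2 g)
      (hσ.scalar z (w z) hwm (hw z))) _

end CfsgLib.Block.AbelianIso
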