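import Cfsg.Agent.Lib.Block.AbelianIso.Reduce
import Cfsg.Agent.Lib.Block.GenericPoint.Setup
import Cfsg.Agent.Lib.Block.Glauberman
import Cfsg.Agent.Lib.Char.Inertia

/-!
# Operators spanned by a group of order prime to `p`

A representation spanning all operators in characteristic prime to the group order is the reduction of a
unique ordinary irreducible character; this gives extensions of characters.
-/

set_option autoImplicit false
set_option linter.unusedSectionVars false

open scoped ComplexConjugate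

namespace CfsgLib.Block.AbelianIso

open Cfsg CfsgLib.Block Module

universe u

section Generic

variable {k : Type*} [Field k] {H : Type*} [Group H] [Fintype H] {d e : ℕ}

/-- The reconstruction identity. -/
def Recon (σ : H →* Module.End k (Fin d → k)) : Prop :=
  ∀ a : Module.End k (Fin d → k),
    (d : k) • ∑ g : H, LinearMap.trace k _ (σ g⁻¹ * a) • σ g = (Nat.card H : k) • a

/-- The coefficients of the unit. -/
noncomputable def unitCoeff (σ : H →* Module.End k (Fin d → k)) (g : H) : k :=
  (d : k) * (Nat.card H : k)⁻¹ * LinearMap.trace k _ (σ g⁻¹)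

variable {σ : H →* Module.End k (Fin d → k)}

theorem Recon.apply (hr : Recon σ) (hH : (Nat.card H : k) ≠ 0) (a : Module.End k (Fin d → k)) :
    ∑ g : H, ((d : k) * (Nat.card H : k)⁻¹ * LinearMap.trace k _ (σ g⁻¹ * a)) • σ g = a := by
  have h : (Nat.card H : k)⁻¹ • ((d : k) • ∑ g : H, LinearMap.trace k _ (σ g⁻¹ * a) • σ g) = a := by
    rw [hr a, inv_smul_smul₀ hH]
  refine Eq.trans ?_ h
  simp only [Finset.smul_sum, smul_smul]
  exact Finset.sum_congr rfl fun g _ => by ring_nf

theorem Recon.full (hr : Recon σ) (hH : (Nat.card H : k) ≠ 0) : Submodule.span k (Set.range σ) = ⊤ :=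
  eq_top_iff.2 fun a _ => by
    rw [← hr.apply hH a]
    exact Submodule.sum_mem _ fun g _ => Submodule.smul_mem _ _ (Submodule.subset_span ⟨g, rfl⟩)

theorem Recon.sum_unitCoeff (hr : Recon σ) (hH : (Nat.card H : k) ≠ 0) :
    ∑ g : H, unitCoeff σ g • σ g = 1 := by
  have := hr.apply hH 1
  simpa [unitCoeff] using this

theorem unitCoeff_conj (g x : H) : unitCoeff σ (x * g * x⁻¹) = unitCoeff σ g := by
  rw [unitCoeff, unitCoeff, show (x * g * x⁻¹)⁻¹ = x * g⁻¹ * x⁻¹ by group, map_mul σ, map_mul σ,
    LinearMap.trace_mul_cycle, ← map_mul, inv_mul_cancel, map_one, one_mul]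

theorem Recon.conv (hr : Recon σ) (hH : (Nat.card H : k) ≠ 0) (g : H) :
    ∑ h : H, unitCoeff σ h * unitCoeff σ (h⁻¹ * g) = unitCoeff σ g := by
  have h1 := congrArg (fun a => (d : k) * (Nat.card H : k)⁻¹ * LinearMap.trace k _ (σ g⁻¹ * a))
    (hr.sum_unitCoeff hH)
  simp only [mul_one, Finset.mul_sum, map_sum, Algebra.mul_smul_comm, map_smul, smul_eq_mul, ← map_mul] at h1
  refine Eq.trans (Finset.sum_congr rfl fun h _ => ?_) (h1.trans rfl)
  simp only [unitCoeff, mul_inv_rev, inv_inv]
  ring

variable {τ : H →* Module.End k (Fin e → k)}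

/-- On a representation spanning everything the unit of `σ` acts as one or zero. -/
theorem Recon.unit_zero_or_one (hr : Recon σ) (hH : (Nat.card H : k) ≠ 0) (he : 0 < e)
    (hfull : Submodule.span k (Set.range τ) = ⊤) :
    ∑ g : H, unitCoeff σ g • τ g = 0 ∨ ∑ g : H, unitCoeff σ g • τ g = 1 := by
  haveI : Nonempty (Fin e) := ⟨⟨0, he⟩⟩
  set E := ∑ g : H, unitCoeff σ g • τ g with hE
  have hidem : E * E = E := by
    rw [hE, Finset.sum_mul_sum]
    simp only [smul_mul_smul_comm, ← map_mul]
    rw [Finset.sum_congr rfl fun a _ => Fintype.sum_equiv (Equiv.mulLeft a)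
      (fun b => (unitCoeff σ a * unitCoeff σ b) • τ (a * b))
      (fun g => (unitCoeff σ a * unitCoeff σ (a⁻¹ * g)) • τ g) (fun b => by simp)]
    rw [Finset.sum_comm]
    exact Finset.sum_congr rfl fun g _ => by rw [← Finset.sum_smul, hr.conv hH]
  have hx : ∀ x, τ x * E = E * τ x := fun x => by
    rw [hE, Finset.sum_mul, Finset.mul_sum]
    simp only [Algebra.mul_smul_comm, Algebra.smul_mul_assoc, ← map_mul]
    refine Fintype.sum_equiv (MulAut.conj x).toEquiv _ _ fun g => ?_
    simp only [MulEquiv.toEquiv_eq_coe, EquivLike.coe_coe, MulAut.conj_apply, unitCoeff_conj]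
    congr 2
    group
  obtain ⟨c, hc⟩ := GenericPoint.exists_scalar (S := E) inferInstance fun b => by
    have hb : b ∈ Submodule.span k (Set.range τ) := hfull ▸ Submodule.mem_top
    induction hb using Submodule.span_induction with
    | mem z hz =>
      obtain ⟨x, rfl⟩ := hz
      exact (hx x).symm
    | zero => exact Commute.zero_right _
    | add a b _ _ ha hb => exact ha.add_right hb
    | smul t a _ ha => exact ha.smul_right t
  have hEc : E = c • 1 := LinearMap.ext fun v => by simp [hc]
  have h2 : c * c = c := by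
    rw [hEc, smul_mul_smul_comm, one_mul] at hidem
    exact smul_left_injective k (one_ne_zero (α := Module.End k (Fin e → k))) hidem
  rcases eq_or_ne c 0 with h | h
  · exact Or.inl (by rw [hEc, h, zero_smul])
  · exact Or.inr (by rw [hEc, mul_right_cancel₀ h (h2.trans (one_mul c).symm), one_smul])

/-- A spanning representation where the unit of `σ` is one is `σ` up to an automorphism. -/
theorem Recon.exists_equiv (hr : Recon σ) (hH : (Nat.card H : k) ≠ 0) (he : 0 < e)
    (hfull : Submodule.span k (Set.range τ) = ⊤) (h1 : ∑ g : H, unitCoeff σ g • τ g = 1) :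
    d = e ∧ ∃ Φ : Module.End k (Fin d → k) ≃ₐ[k] Module.End k (Fin e → k), ∀ h, Φ (σ h) = τ h := by
  haveI : Nonempty (Fin e) := ⟨⟨0, he⟩⟩
  let Φ₀ : Module.End k (Fin d → k) →ₗ[k] Module.End k (Fin e → k) :=
    ∑ g : H, (((d : k) * (Nat.card H : k)⁻¹) •
      (LinearMap.trace k _ ∘ₗ LinearMap.mulLeft k (σ g⁻¹))).smulRight (τ g)
  have hΦ : ∀ a, Φ₀ a = ∑ g : H, ((d : k) * (Nat.card H : k)⁻¹ * LinearMap.trace k _ (σ g⁻¹ * a)) • τ g :=
    fun a => by simp [Φ₀]
  have hσ : ∀ h, Φ₀ (σ h) = τ h := fun h => by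
    rw [hΦ]
    calc ∑ g : H, ((d : k) * (Nat.card H : k)⁻¹ * LinearMap.trace k _ (σ g⁻¹ * σ h)) • τ g
        = ∑ g : H, unitCoeff σ g • τ (h * g) := by
          refine Fintype.sum_equiv (Equiv.mulLeft h⁻¹) _ _ fun g => ?_
          rw [Equiv.coe_mulLeft, mul_inv_cancel_left, unitCoeff, ← map_mul]
          congr 3
          simp
      _ = τ h * ∑ g : H, unitCoeff σ g • τ g := by
          simp [Finset.mul_sum, Algebra.mul_smul_comm]
      _ = τ h := by rw [h1, mul_one]
  have hone : Φ₀ 1 = 1 := by rw [← map_one σ, hσ, map_one]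
  have hmem : ∀ a, a ∈ Submodule.span k (Set.range σ) := fun a => hr.full hH ▸ Submodule.mem_top
  have hmul : ∀ a b, Φ₀ (a * b) = Φ₀ a * Φ₀ b := fun a b => by
    induction hmem a using Submodule.span_induction with
    | mem x hx =>
      obtain ⟨x, rfl⟩ := hx
      induction hmem b using Submodule.span_induction with
      | mem y hy =>
        obtain ⟨y, rfl⟩ := hy
        rw [← map_mul, hσ, hσ, hσ, map_mul]
      | zero => simp
      | add y y' _ _ hy hy' => rw [mul_add, map_add, map_add, hy, hy', mul_add]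
      | smul t y _ hy => rw [Algebra.mul_smul_comm, map_smul, map_smul, hy, Algebra.mul_smul_comm]
    | zero => simp
    | add y y' _ _ hy hy' => rw [add_mul, map_add, map_add, hy, hy', add_mul]
    | smul t y _ hy => rw [Algebra.smul_mul_assoc, map_smul, map_smul, hy, Algebra.smul_mul_assoc]
  let Φ : Module.End k (Fin d → k) →ₐ[k] Module.End k (Fin e → k) := AlgHom.ofLinearMap Φ₀ hone hmul
  have hd : 0 < d := Nat.pos_of_ne_zero fun h => by
    subst h
    have h2 := hone
    rw [show (1 : Module.End k (Fin 0 → k)) = 0 from Subsingleton.elim _ _, map_zero] at h2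
    exact zero_ne_one h2
  haveI : Nonempty (Fin d) := ⟨⟨0, hd⟩⟩
  have hinj : Function.Injective Φ := by
    let j : Matrix (Fin d) (Fin d) k ≃ₐ[k] Module.End k (Fin d → k) := Matrix.toLinAlgEquiv'
    have h2 : Function.Injective (Φ.comp j.toAlgHom) := (Φ.comp j.toAlgHom).toRingHom.injective
    intro a b hab
    obtain ⟨a, rfl⟩ := j.surjective a
    obtain ⟨b, rfl⟩ := j.surjective b
    exact congrArg j (h2 hab)
  have hsur : Function.Surjective Φ := by
    rw [← AlgHom.range_eq_top, ← Algebra.toSubmodule_eq_top, eq_top_iff, ← hfull, Submodule.span_le]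
    rintro _ ⟨h, rfl⟩
    exact ⟨σ h, hσ h⟩
  let Ψ := AlgEquiv.ofBijective Φ ⟨hinj, hsur⟩
  refine ⟨?_, Ψ, hσ⟩
  have h3 := Ψ.toLinearEquiv.finrank_eq
  rw [Module.finrank_linearMap, Module.finrank_linearMap, Module.finrank_fin_fun,
    Module.finrank_fin_fun] at h3
  exact Nat.mul_self_inj.1 h3

end Generic

variable {p : ℕ} {M : Ideal AlgInt} [M.IsMaximal] {H : Type u} [Group H] [Fintype H]

theorem recon_of_isReduction {n : ℕ} {ρ : Representation ℂ H (Fin n → ℂ)} [ρ.IsIrreducible]
    {σ : H →* Module.End (RedField M) (Fin n → RedField M)} (hσ : IsReduction ρ σ) : Recon σ :=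
  fun a => hσ.recon H (MonoidHom.id H)
    (by rw [MonoidHom.comp_id]; infer_instance) a

theorem natCast_card_ne_zero (hM : IsPModular p M) (hp : ¬ p ∣ Nat.card H) :
    (Nat.card H : RedField M) ≠ 0 :=
  haveI := charP_redField M hM
  fun h => hp ((CharP.cast_eq_zero_iff (RedField M) p _).1 h)

theorem unitCoeff_eq_resUp [DecidableEq H] (hM : IsPModular p M) (hp : ¬ p ∣ Nat.card H) {n : ℕ}
    {ρ : Representation ℂ H (Fin n → ℂ)} {σ : H →* Module.End (RedField M) (Fin n → RedField M)}
    (hσ : IsReduction ρ σ) (χ : IrrCharacter H) (hχ : ρ.character = (χ : H → ℂ)) (g : H) :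
    unitCoeff σ g = resUp M (coeffRes M ({χ} : Set (IrrCharacter H)) g) := by
  rw [unitCoeff, hσ.trace_eq, coeffRes, resUp_res, mul_right_comm]
  refine (mul_inv_eq_iff_eq_mul₀ (natCast_card_ne_zero hM hp)).2 ?_
  rw [← map_natCast (red M), ← map_natCast (red M), ← map_mul, ← map_mul]
  refine congrArg _ (Subtype.ext ?_)
  push_cast
  rw [coe_coeff_blockIdem hM (.of_isPBlock (Glauberman.singleton_isPBlock hM hp χ)), blockCoeff,
    finsum_mem_singleton, hχ, Char.irr_inv χ g, ← congrFun hχ 1, Representation.char_one,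
    Module.finrank_fin_fun]
  field_simp [Nat.card_pos.ne']

/-- The ordinary character of a spanning representation. -/
theorem exists_irr_of_full [DecidableEq H] (hM : IsPModular p M) (hp : ¬ p ∣ Nat.card H) {e : ℕ}
    (he : 0 < e) (τ : H →* Module.End (RedField M) (Fin e → RedField M))
    (hfull : Submodule.span (RedField M) (Set.range τ) = ⊤) :
    ∃ (χ : IrrCharacter H) (n : ℕ) (ρ : Representation ℂ H (Fin n → ℂ))
      (σ : H →* Module.End (RedField M) (Fin n → RedField M)),
      ρ.IsIrreducible ∧ ρ.character = (χ : H → ℂ) ∧ IsReduction ρ σ ∧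
      ∑ g : H, unitCoeff σ g • τ g = 1 := by
  classical
  haveI : Nonempty (Fin e) := ⟨⟨0, he⟩⟩
  have := Fintype.ofFinite (IrrCharacter H)
  have hH := natCast_card_ne_zero hM hp
  choose n ρ hρ hχ using fun χ : IrrCharacter H => χ.2
  choose σ hσ using fun χ => exists_reduction (M := M) (ρ χ)
  by_contra hall
  push Not at hall
  have h0 : ∀ χ, ∑ g : H, unitCoeff (σ χ) g • τ g = 0 := fun χ =>
    haveI := hρ χ
    ((recon_of_isReduction (hσ χ)).unit_zero_or_one hH he hfull).resolve_right
      (hall χ _ (ρ χ) (σ χ) (hρ χ) (hχ χ) (hσ χ))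
  have h1 : ∀ g : H, (Nat.card H : RedField M) * ∑ χ, unitCoeff (σ χ) g =
      if g = 1 then (Nat.card H : RedField M) else 0 := fun g => by
    have e1 : ∀ χ, (Nat.card H : RedField M) * unitCoeff (σ χ) g =
        red M (⟨(χ : H → ℂ) 1, irr_mem_locRing M χ 1⟩ * ⟨(χ : H → ℂ) g⁻¹, irr_mem_locRing M χ _⟩) := fun χ => by
      rw [unitCoeff, (hσ χ).trace_eq, mul_comm (n χ : RedField M), mul_assoc,
        mul_inv_cancel_left₀ hH, ← map_natCast (red M), ← map_mul]
      refine congrArg _ (Subtype.ext ?_)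
      push_cast
      rw [← congrFun (hχ χ) 1, Representation.char_one, Module.finrank_fin_fun, hχ χ]
    have h2 := Char.sum_irr_mul_conj (1 : H) g
    rw [Finset.mul_sum, Finset.sum_congr rfl fun χ _ => e1 χ, ← map_sum,
      show (if g = 1 then (Nat.card H : RedField M) else 0) =
        red M (if g = 1 then (Nat.card H : locRing M) else 0) by split_ifs <;> simp]
    refine congrArg _ (Subtype.ext ?_)
    rw [AddSubmonoidClass.coe_finsetSum]
    simp only [MulMemClass.coe_mul, Char.irr_inv]
    rw [h2]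
    by_cases hg : g = 1
    · subst hg
      rw [if_pos (IsConj.refl _), if_pos rfl, show Subgroup.centralizer ({(1 : H)} : Set H) = ⊤ by
        ext x; simp [Subgroup.mem_centralizer_singleton_iff], Subgroup.card_top]
      rfl
    · rw [if_neg hg, if_neg fun h => hg (isConj_one_right.1 h)]
      rfl
  have h2 : (Nat.card H : RedField M) • (1 : Module.End (RedField M) (Fin e → RedField M)) = 0 := by
    calc _ = ∑ g : H, (if g = 1 then (Nat.card H : RedField M) else 0) • τ g := by simp
      _ = ∑ g : H, (Nat.card H : RedField M) • (∑ χ, unitCoeff (σ χ) g) • τ g :=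
          Finset.sum_congr rfl fun g _ => by rw [← h1, mul_smul]
      _ = 0 := by
          rw [← Finset.smul_sum]
          simp only [Finset.sum_smul]
          rw [Finset.sum_comm, Finset.sum_eq_zero fun χ _ => h0 χ, smul_zero]
  exact one_ne_zero ((smul_eq_zero.1 h2).resolve_left hH)

/-- A spanning representation on which the unit of a character of `L` acts as one gives an extension of
that character, with the same central scalars. -/
theorem exists_extension_of_full [DecidableEq H] (hM : IsPModular p M) (hp : ¬ p ∣ Nat.card H)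
    {L : Type u} [Group L] [Fintype L] [DecidableEq L] (hpL : ¬ p ∣ Nat.card L) (i : L →* H)
    (θ : IrrCharacter L) {e : ℕ} (he : 0 < e)
    (τ : H →* Module.End (RedField M) (Fin e → RedField M))
    (hfull : Submodule.span (RedField M) (Set.range (τ.comp i)) = ⊤)
    (h1 : ∑ l : L, resUp M (coeffRes M ({θ} : Set (IrrCharacter L)) l) • τ (i l) = 1) :
    ∃ χ : IrrCharacter H, (∀ l, (χ : H → ℂ) (i l) = (θ : L → ℂ) l) ∧
      ∀ (z : H) (w : ℂ) (hw : w ∈ locRing M), z ∈ Subgroup.center H → w ^ Nat.card H = 1 →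
        τ z = red M ⟨w, hw⟩ • 1 → ∀ h, (χ : H → ℂ) (z * h) = w * (χ : H → ℂ) h := by
  classical
  have hH := natCast_card_ne_zero hM hp
  have hL := natCast_card_ne_zero hM hpL
  have hfullH : Submodule.span (RedField M) (Set.range τ) = ⊤ := eq_top_iff.2 (hfull ▸
    Submodule.span_mono (by rintro _ ⟨l, rfl⟩; exact ⟨i l, rfl⟩))
  obtain ⟨χ, n, ρ, σ, hρ, hχ, hσ, hone⟩ := exists_irr_of_full hM hp he τ hfullH
  obtain ⟨hne, Φ, hΦ⟩ := (recon_of_isReduction hσ).exists_equiv hH he hfullH hone
  obtain ⟨m, ρ₀, hρ₀, hθ⟩ := θ.2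
  obtain ⟨σ₀, hσ₀⟩ := exists_reduction (M := M) ρ₀
  have h1' : ∑ l : L, unitCoeff σ₀ l • τ (i l) = 1 := by
    simpa only [unitCoeff_eq_resUp hM hpL hσ₀ θ hθ] using h1
  obtain ⟨hme, -⟩ := (recon_of_isReduction hσ₀).exists_equiv hL he (τ := τ.comp i) hfull h1'
  have hσ1 : ∑ l : L, unitCoeff σ₀ l • σ (i l) = 1 := Φ.injective (by
    rw [map_sum, map_one, ← h1']
    exact Finset.sum_congr rfl fun l _ => by rw [map_smul, hΦ])
  have hinner : classInner (fun l : L => (χ : H → ℂ) (i l)) (θ : L → ℂ) ≠ 0 := by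
    intro h0
    have h2 := congrArg (LinearMap.trace (RedField M) _) hσ1
    rw [map_sum, LinearMap.trace_one, Module.finrank_fin_fun] at h2
    simp only [map_smul, smul_eq_mul, unitCoeff, hσ₀.trace_eq, hσ.trace_eq] at h2
    have e1 : ∑ l : L, red M ⟨ρ₀.character l⁻¹, char_mem_locRing ρ₀ _⟩ *
        red M ⟨ρ.character (i l), char_mem_locRing ρ _⟩ = 0 := by
      rw [← map_zero (red M), Finset.sum_congr rfl fun l _ => (map_mul (red M) _ _).symm, ← map_sum]
      refine congrArg _ (Subtype.ext ?_)
      rw [classInner, mul_eq_zero] at h0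
      refine Eq.trans ?_ (h0.resolve_left (inv_ne_zero (Nat.cast_ne_zero.2 Nat.card_pos.ne')))
      rw [AddSubmonoidClass.coe_finsetSum]
      refine Finset.sum_congr rfl fun l _ => ?_
      show ρ₀.character l⁻¹ * ρ.character (i l) = _
      rw [congrFun hθ, congrFun hχ, Char.irr_inv θ l, mul_comm]
    rw [Finset.sum_congr rfl fun l _ => mul_assoc ((m : RedField M) * (Nat.card L : RedField M)⁻¹) _ _,
      ← Finset.mul_sum, e1, mul_zero] at h2
    apply hL
    have h3 := congrArg (fun a => (Nat.card L : RedField M) • a) h1'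
    have h4 : (m : RedField M) = 0 := by rw [hme, ← hne]; exact h2.symm
    simp only [unitCoeff, h4, zero_mul, zero_smul, Finset.sum_const_zero, smul_zero] at h3
    haveI : Nonempty (Fin e) := ⟨⟨0, he⟩⟩
    exact ((smul_eq_zero.1 h3.symm).resolve_right one_ne_zero)
  refine ⟨χ, ?_, fun z w hw hz hwn hτz h => ?_⟩
  · intro l
    refine congrFun ((Char.degree_le_of_constituent (Char.isCharacter_comp (Char.isCharacter_irr χ) i) θ
      hinner (a := n) (b := m) ?_ ?_).2 (hne.trans hme.symm)) l
    · rw [map_one, ← congrFun hχ 1, Representation.char_one, Module.finrank_fin_fun]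
    · rw [← congrFun hθ 1, Representation.char_one, Module.finrank_fin_fun]
  · haveI := hρ
    obtain ⟨c, hc⟩ := Char.exists_scalar_of_mem_center ρ hz
    have hcn : c ^ Nat.card H = 1 := by
      have h2 := congrArg (fun f => f ^ Nat.card H) hc
      simp only [← map_pow, pow_card_eq_one', map_one] at h2
      haveI := Char.nontrivial_of_irreducible ρ
      rw [show (c • (LinearMap.id : (Fin n → ℂ) →ₗ[ℂ] _)) ^ Nat.card H = c ^ Nat.card H • 1 by
        rw [show (LinearMap.id : (Fin n → ℂ) →ₗ[ℂ] _) = 1 from rfl, smul_pow, one_pow]] at h2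
      exact (smul_left_injective ℂ (one_ne_zero (α := Module.End ℂ (Fin n → ℂ)))
        ((one_smul ℂ 1).trans h2)).symm
    have hcm : c ∈ locRing M := integral_mem M (Char.isIntegral_of_pow_eq_one Nat.card_pos.ne' hcn)
    have h2 := congrArg Φ (hσ.scalar z c hcm hc)
    rw [hΦ, hτz, map_smul, map_one] at h2
    haveI : Nonempty (Fin e) := ⟨⟨0, he⟩⟩
    have h3 := smul_left_injective (RedField M) (one_ne_zero (α := Module.End (RedField M) (Fin e → RedField M))) h2
    rw [← resUp_res, ← resUp_res] at h3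
    have h4 : w = c := congrArg Subtype.val (res_rootOfUnity_injective hM hp
      (x := (⟨w, hw⟩ : locRing M)) (y := ⟨c, hcm⟩) (Subtype.ext (by simpa using hwn))
      (Subtype.ext (by simpa using hcn)) ((resUp M).injective h3))
    subst h4
    rw [← hχ, Representation.character, Representation.character, map_mul, hc]
    simp [Module.End.mul_eq_comp]

end CfsgLib.Block.AbelianIso
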