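import Cfsg.Agent.Lib.Block.InducedChar
import Cfsg.Agent.Lib.Block.RegularIndicator
import Cfsg.Agent.Lib.Block.Transport
import Cfsg.Prelude.Def_BlockLocal
import Cfsg.Prelude.Def_BlockRank

/-!
# Induction of perfect functions, and the ranks across an isometry
-/

set_option autoImplicit false
set_option linter.unusedSectionVars false

open scoped ComplexConjugate

namespace CfsgLib.Block.AbelianIso

open Cfsg CfsgLib CfsgLib.Block

universe u

section Ind

variable {G : Type u} [Group G] [Fintype G] (T : Subgroup G) [Fintype T] [Fintype (ConjClasses T)]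

/-- Induction as a sum over the classes of the subgroup. -/
theorem indFun_eq_sum_classes (F : T → ℂ) (hF : IsClassFunction T F) (x : G)
    [DecidablePred fun C : ConjClasses T => IsConj x ((rep C : T) : G)] :
    indFun T F x = ∑ C ∈ Finset.univ.filter (fun C : ConjClasses T => IsConj x ((rep C : T) : G)),
      (Nat.card (Subgroup.centralizer ({x} : Set G)) : ℂ) /
        (Nat.card (Subgroup.centralizer ({rep C} : Set T)) : ℂ) * F (rep C) := by
  classical
  have h2 : ∑ y ∈ Finset.univ.filter (fun y => IsConj x y), extendByZero T F y =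
      ∑ t ∈ Finset.univ.filter (fun t : T => IsConj x (t : G)), F t := by
    rw [show ∑ t ∈ Finset.univ.filter (fun t : T => IsConj x (t : G)), F t =
        ∑ y ∈ (Finset.univ.filter (fun t : T => IsConj x (t : G))).map ⟨((↑) : T → G), Subtype.val_injective⟩,
          extendByZero T F y by
      rw [Finset.sum_map]
      exact Finset.sum_congr rfl fun t _ => (Char.extendByZero_mem T F t.2).symm]
    refine (Finset.sum_subset (fun y hy => ?_) fun y hy hy' => ?_).symm
    · obtain ⟨t, ht, rfl⟩ := Finset.mem_map.1 hy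
      exact Finset.mem_filter.2 ⟨Finset.mem_univ _, (Finset.mem_filter.1 ht).2⟩
    · refine Char.extendByZero_not_mem T F fun hT => hy' (Finset.mem_map.2
        ⟨⟨y, hT⟩, Finset.mem_filter.2 ⟨Finset.mem_univ _, (Finset.mem_filter.1 hy).2⟩, rfl⟩)
  rw [indFun, sum_conj_eq, h2, ← Finset.sum_fiberwise_of_maps_to (g := ConjClasses.mk)
    (t := Finset.univ.filter fun C : ConjClasses T => IsConj x ((rep C : T) : G)) (fun t ht => ?_),
    Finset.mul_sum, Finset.mul_sum]
  · refine Finset.sum_congr rfl fun C hC => ?_
    have hC' := (Finset.mem_filter.1 hC).2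
    have hfib : (Finset.univ.filter fun t : T => IsConj x (t : G)).filter (fun t => ConjClasses.mk t = C) =
        Finset.univ.filter fun t : T => IsConj (rep C) t := by
      ext t
      simp only [Finset.mem_filter, Finset.mem_univ, true_and]
      constructor
      · rintro ⟨-, h⟩
        exact ConjClasses.mk_eq_mk_iff_isConj.1 ((mk_rep C).trans h.symm)
      · intro h
        exact ⟨hC'.trans (T.subtype.map_isConj h), (ConjClasses.mk_eq_mk_iff_isConj.2 h.symm).trans (mk_rep C)⟩
    rw [hfib, Finset.sum_congr rfl fun t ht => (Char.classFun_isConj hF (Finset.mem_filter.1 ht).2).symm,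
      Finset.sum_const, nsmul_eq_mul, ← Fintype.card_subtype, ← Nat.card_eq_fintype_card, Char.card_isConj]
    have hne : (Nat.card (Subgroup.centralizer ({rep C} : Set T)) : ℂ) ≠ 0 :=
      Nat.cast_ne_zero.2 Nat.card_pos.ne'
    have hmul : ((Subgroup.centralizer ({rep C} : Set T)).index : ℂ) *
        (Nat.card (Subgroup.centralizer ({rep C} : Set T)) : ℂ) = (Nat.card T : ℂ) := by
      rw [← Nat.cast_mul, Subgroup.index_mul_card]
    have hT : (Nat.card T : ℂ) ≠ 0 := Nat.cast_ne_zero.2 Nat.card_pos.ne'
    field_simp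
    linear_combination F (rep C) * hmul
  · refine Finset.mem_filter.2 ⟨Finset.mem_univ _, (Finset.mem_filter.1 ht).2.trans ?_⟩
    exact T.subtype.map_isConj (ConjClasses.mk_eq_mk_iff_isConj.1 (mk_rep (ConjClasses.mk t))).symm

/-- The index of centralisers along a subgroup is an integer. -/
theorem card_centralizer_dvd {x : G} {t : T} (h : IsConj x (t : G)) :
    Nat.card (Subgroup.centralizer ({t} : Set T)) ∣ Nat.card (Subgroup.centralizer ({x} : Set G)) := by
  obtain ⟨g, hg⟩ := isConj_iff.1 h.symm
  refine Subgroup.card_dvd_of_injective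
    (((MulAut.conj g).toMonoidHom.comp (T.subtype.comp (Subgroup.centralizer ({t} : Set T)).subtype)).codRestrict
      (Subgroup.centralizer ({x} : Set G)) fun u => ?_) fun a b hab => ?_
  · rw [Subgroup.mem_centralizer_singleton_iff, ← hg]
    show MulAut.conj g ((u : T) : G) * MulAut.conj g (t : G) = MulAut.conj g (t : G) * MulAut.conj g ((u : T) : G)
    rw [← map_mul, ← map_mul, ← Subgroup.coe_mul, Subgroup.mem_centralizer_singleton_iff.1 u.2, Subgroup.coe_mul]
  · exact Subtype.ext (Subtype.ext ((MulAut.conj g).injective (congrArg Subtype.val hab :)))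

end Ind

theorem isPRegular_conj {G : Type u} [Group G] (p : ℕ) {x y : G} (h : IsConj x y) :
    IsPRegular p x ↔ IsPRegular p y := by
  obtain ⟨g, rfl⟩ := isConj_iff.1 h
  have h1 : orderOf (g * x * g⁻¹) = orderOf x := (MulAut.conj g).orderOf_eq x
  simp only [IsPRegular, h1]

theorem isPRegular_coe {G : Type u} [Group G] (p : ℕ) {T : Subgroup G} (t : T) :
    IsPRegular p t ↔ IsPRegular p (t : G) := by
  simp [IsPRegular, Subgroup.orderOf_coe]

variable {p : ℕ} {M : Ideal AlgInt} [M.IsMaximal] {G H : Type u} [Group G] [Group H] [Fintype G] [Fintype H]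

/-- A perfect function induced in both variables is perfect. -/
theorem isPerfectFun_ind (T : Subgroup G) (S : Subgroup H) [Fintype T] [Fintype S] (μ : T → S → ℂ)
    (h1 : ∀ s, IsClassFunction T fun t => μ t s) (h2 : ∀ t, IsClassFunction S (μ t))
    (hμ : IsPerfectFun p M μ) :
    IsPerfectFun p M fun x y => indFun T (fun t => indFun S (μ t) y) x := by
  classical
  letI := Fintype.ofFinite (ConjClasses T)
  letI := Fintype.ofFinite (ConjClasses S)
  intro x y
  set cx := (Nat.card (Subgroup.centralizer ({x} : Set G)) : ℂ) with hcx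
  set cy := (Nat.card (Subgroup.centralizer ({y} : Set H)) : ℂ) with hcy
  have hcl : IsClassFunction T fun t => indFun S (μ t) y := fun g k => by
    show indFun S (μ (k * g * k⁻¹)) y = indFun S (μ g) y
    exact congrArg (fun f => indFun S f y) (funext fun s => h1 s g k)
  have he : indFun T (fun t => indFun S (μ t) y) x =
      ∑ C ∈ Finset.univ.filter (fun C : ConjClasses T => IsConj x ((rep C : T) : G)),
        ∑ D ∈ Finset.univ.filter (fun D : ConjClasses S => IsConj y ((rep D : S) : H)),
          cx / (Nat.card (Subgroup.centralizer ({rep C} : Set T)) : ℂ) *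
            (cy / (Nat.card (Subgroup.centralizer ({rep D} : Set S)) : ℂ)) * μ (rep C) (rep D) := by
    rw [indFun_eq_sum_classes T _ hcl]
    refine Finset.sum_congr rfl fun C _ => ?_
    rw [indFun_eq_sum_classes S _ (h2 _), Finset.mul_sum]
    exact Finset.sum_congr rfl fun D _ => by ring
  have hrat : ∀ {A : Type u} [Group A] [Fintype A] (U : Subgroup A) (a : A) (u : U), IsConj a (u : A) →
      (Nat.card (Subgroup.centralizer ({a} : Set A)) : ℂ) /
        (Nat.card (Subgroup.centralizer ({u} : Set U)) : ℂ) ∈ locRing M := by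
    intro A _ _ U a u hau
    rw [← Nat.cast_div (card_centralizer_dvd U hau) (Nat.cast_ne_zero.2 Nat.card_pos.ne')]
    exact natCast_mem _ _
  have hne : cx ≠ 0 ∧ cy ≠ 0 := ⟨Nat.cast_ne_zero.2 Nat.card_pos.ne', Nat.cast_ne_zero.2 Nat.card_pos.ne'⟩
  beta_reduce
  rw [he]
  refine ⟨?_, ?_, ?_⟩
  · rw [← mem_locRing_iff, Finset.sum_div]
    refine sum_mem fun C _ => ?_
    rw [Finset.sum_div]
    refine sum_mem fun D hD => ?_
    have := mul_mem (hrat S y (rep D) (Finset.mem_filter.1 hD).2) ((hμ (rep C) (rep D)).1)
    convert this using 1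
    have := hne.1
    field_simp
    ring
  · rw [← mem_locRing_iff, Finset.sum_div]
    refine sum_mem fun C hC => ?_
    rw [Finset.sum_div]
    refine sum_mem fun D _ => ?_
    have := mul_mem (hrat T x (rep C) (Finset.mem_filter.1 hC).2) ((hμ (rep C) (rep D)).2.1)
    convert this using 1
    have := hne.2
    field_simp
    ring
  · refine or_iff_not_imp_right.2 fun h => ?_
    obtain ⟨C, hC, h⟩ := Finset.exists_ne_zero_of_sum_ne_zero h
    obtain ⟨D, hD, h⟩ := Finset.exists_ne_zero_of_sum_ne_zero h
    rw [isPRegular_conj p (Finset.mem_filter.1 hC).2, isPRegular_conj p (Finset.mem_filter.1 hD).2,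
      ← isPRegular_coe, ← isPRegular_coe]
    exact (hμ (rep C) (rep D)).2.2.resolve_right (right_ne_zero_of_mul h)

/-- A perfect function read along an isomorphism. -/
theorem isPerfectFun_comp {H' : Type u} [Group H'] [Fintype H'] (e : H' ≃* H) {μ : G → H → ℂ}
    (hμ : IsPerfectFun p M μ) : IsPerfectFun p M fun x y => μ x (e y) := by
  intro x y
  have h1 : Nat.card (Subgroup.centralizer ({y} : Set H')) = Nat.card (Subgroup.centralizer ({e y} : Set H)) := by
    rw [← centralizer_map_singleton e, Subgroup.card_map_of_injective e.injective]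
  have h2 : IsPRegular p y ↔ IsPRegular p (e y) := by
    show ¬ p ∣ orderOf y ↔ ¬ p ∣ orderOf (e y)
    rw [MulEquiv.orderOf_eq]
  rw [h1, h2]
  exact hμ x (e y)

/-- The regular parts of the images span at most as much. -/
theorem span_regular_le {c : Set (IrrCharacter H)} {B : Set (IrrCharacter G)}
    {I : IrrCharacter H → IrrCharacter G} (hI : Set.BijOn I c B) (μ : G → H → ℂ)
    (hsum : ∀ x y, μ x y = ∑ᶠ η ∈ c, (I η : G → ℂ) x * (η : H → ℂ) y)
    (hreg : ∀ x y, (IsPRegular p x ↔ IsPRegular p y) ∨ μ x y = 0) :
    blockRank p B ≤ blockRank p c := by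
  classical
  let Φ : (H → ℂ) →ₗ[ℂ] (G → ℂ) :=
    { toFun := fun f x => if IsPRegular p x then (Nat.card H : ℂ)⁻¹ * ∑ y : H, μ x y * f y⁻¹ else 0
      map_add' := fun f g => funext fun x => by
        simp only [Pi.add_apply, mul_add, Finset.sum_add_distrib]
        split_ifs <;> simp
      map_smul' := fun a f => funext fun x => by
        simp only [Pi.smul_apply, smul_eq_mul, RingHom.id_apply, Finset.mul_sum]
        split_ifs
        · conv_rhs => rw [Finset.mul_sum]
          exact Finset.sum_congr rfl fun y _ => by ring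
        · simp }
  have horth : ∀ η ∈ c, ∀ x, (Nat.card H : ℂ)⁻¹ * ∑ y : H, μ x y * (η : H → ℂ) y⁻¹ = (I η : G → ℂ) x := by
    intro η hη x
    haveI := Fintype.ofFinite (IrrCharacter H)
    simp only [hsum, finsum_mem_eq_toFinset_sum, Finset.sum_mul]
    rw [Finset.sum_comm, Finset.mul_sum, Finset.sum_eq_single η]
    · have h := Char.classInner_irr_self η
      rw [classInner] at h
      rw [show ∑ y : H, (I η : G → ℂ) x * (η : H → ℂ) y * (η : H → ℂ) y⁻¹ =
        (I η : G → ℂ) x * ∑ y : H, (η : H → ℂ) y * conj ((η : H → ℂ) y) by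
        rw [Finset.mul_sum]
        exact Finset.sum_congr rfl fun y _ => by rw [Char.irr_inv η]; ring]
      rw [mul_left_comm, h, mul_one]
    · intro ζ _ hne
      have h := Char.classInner_irr_ne hne
      rw [classInner] at h
      rw [show ∑ y : H, (I ζ : G → ℂ) x * (ζ : H → ℂ) y * (η : H → ℂ) y⁻¹ =
        (I ζ : G → ℂ) x * ∑ y : H, (ζ : H → ℂ) y * conj ((η : H → ℂ) y) by
        rw [Finset.mul_sum]
        exact Finset.sum_congr rfl fun y _ => by rw [Char.irr_inv η]; ring]
      rw [mul_left_comm, h, mul_zero]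
    · exact fun h => absurd (Set.mem_toFinset.2 hη) h
  have himg : ∀ η ∈ c, Φ (pRegularPart p (η : H → ℂ)) = pRegularPart p (I η : G → ℂ) := by
    intro η hη
    funext x
    show (if IsPRegular p x then _ else (0 : ℂ)) = _
    simp only [pRegularPart]
    by_cases hx : IsPRegular p x
    · rw [if_pos hx, if_pos hx, ← horth η hη x]
      congr 1
      refine Finset.sum_congr rfl fun y _ => ?_
      by_cases hy : IsPRegular p y⁻¹
      · rw [if_pos hy]
      · rcases hreg x y with h | h
        · exact absurd (h.1 hx) (by simpa [IsPRegular] using hy)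
        · rw [h, zero_mul, zero_mul]
    · rw [if_neg hx, if_neg hx]
  unfold blockRank
  have hset : (fun χ : IrrCharacter G => pRegularPart p (χ : G → ℂ)) '' B =
      Φ '' ((fun η : IrrCharacter H => pRegularPart p (η : H → ℂ)) '' c) := by
    rw [← hI.image_eq, Set.image_image, Set.image_image]
    exact Set.image_congr fun η hη => (himg η hη).symm
  rw [hset, ← Submodule.map_span]
  exact Submodule.finrank_map_le Φ _

/-- A perfect isometry without signs preserves the number of characters and the regular rank. -/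
theorem card_rank_eq_of_isometry {c : Set (IrrCharacter H)} {B : Set (IrrCharacter G)}
    {I : IrrCharacter H → IrrCharacter G} (hI : Set.BijOn I c B)
    (hμ : IsPerfectFun p M (signedBijectionKernel c I fun _ => 1)) :
    Nat.card c = Nat.card B ∧ blockRank p c = blockRank p B := by
  classical
  haveI : Nonempty (IrrCharacter H) := ⟨⟨fun _ => 1, Char.isIrrCharacter_one⟩⟩
  have hsum : ∀ x y, signedBijectionKernel c I (fun _ => 1) x y =
      ∑ᶠ η ∈ c, (I η : G → ℂ) x * (η : H → ℂ) y := fun x y => by
    simp [signedBijectionKernel]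
  refine ⟨Nat.card_congr hI.equiv, le_antisymm ?_ (span_regular_le hI _ hsum fun x y => (hμ x y).2.2)⟩
  refine span_regular_le (I := Function.invFunOn I c) (hI.symm hI.invOn_invFunOn.symm)
    (fun y x => signedBijectionKernel c I (fun _ => 1) x y) (fun y x => ?_)
    fun y x => ((hμ x y).2.2).imp_left Iff.symm
  rw [hsum]
  refine finsum_mem_eq_of_bijOn I hI fun η hη => ?_
  beta_reduce
  rw [hI.invOn_invFunOn.1 hη, mul_comm]

end CfsgLib.Block.AbelianIso
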