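import Cfsg.Agent.Lib.Block.AbelianIso.Stable
import Cfsg.Agent.Lib.Block.AbelianIso.Kernel
import Cfsg.Agent.Lib.Block.AbelianIso.Cover
import Cfsg.Agent.Lib.Block.FirstMain
import Cfsg.Agent.Lib.Block.PSolvableFullDefect
import Cfsg.Agent.Lib.PGroup.CoprimeOrbits

/-!
# Blocks of `p`-solvable groups with abelian defect group

A block of a `p`-solvable group with abelian defect group `P` and its correspondent in the normaliser of
`P` are perfectly isometric, by induction on the order of the group: the Fong–Reynolds correspondence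
reduces to an invariant character of the `p'`-core.
-/

set_option autoImplicit false
set_option linter.unusedSectionVars false

open MonoidAlgebra
open scoped ComplexConjugate

namespace CfsgLib.Block.AbelianIso

open Cfsg CfsgLib CfsgLib.Block
open scoped Pair

universe u

variable {p : ℕ} [hp : Fact p.Prime] {M : Ideal AlgInt} [M.IsMaximal]

/-- What is to be proved for a block. -/
def HasIsometry {G : Type u} [Group G] [Fintype G] (p : ℕ) (M : Ideal AlgInt) (B : Set (IrrCharacter G))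
    (P : Subgroup G) (c : Set (IrrCharacter (Subgroup.normalizer (P : Set G)))) : Prop :=
  ∃ I : IrrCharacter (Subgroup.normalizer (P : Set G)) → IrrCharacter G,
    Set.BijOn I c B ∧ IsPerfectFun p M (signedBijectionKernel c I fun _ => 1)

theorem blockDefect_eq_of_ind (hM : IsPModular p M) {G : Type u} [Group G] [Fintype G] [DecidableEq G]
    {T : Subgroup G} [Fintype T] {c' : Set (IrrCharacter T)} {c : Set (IrrCharacter G)}
    (hmem : ∀ χ : IrrCharacter G, χ ∈ c ↔ ∃ ψ ∈ c', (χ : G → ℂ) = indFun T (ψ : T → ℂ))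
    (hirr : ∀ ψ ∈ c', IsIrrCharacter G (indFun T (ψ : T → ℂ))) (hne : c'.Nonempty) :
    blockDefect p c = blockDefect p c' := by
  classical
  set a := T.index.factorization p
  set S := (fun ψ : IrrCharacter T => (charDegree (ψ : T → ℂ)).factorization p) '' c' with hS
  set S₁ := (fun χ : IrrCharacter G => (charDegree (χ : G → ℂ)).factorization p) '' c with hS₁
  have hdeg : ∀ χ : IrrCharacter G, ∀ ψ : IrrCharacter T, (χ : G → ℂ) = indFun T (ψ : T → ℂ) →
      (charDegree (χ : G → ℂ)).factorization p = a + (charDegree (ψ : T → ℂ)).factorization p :=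
    fun χ ψ he => fongReynolds_degree hM he
  obtain ⟨ψ₀, hψ₀, he₀⟩ : sInf S ∈ S := Nat.sInf_mem (hne.image _)
  have h1 : a + sInf S ∈ S₁ := ⟨⟨_, hirr ψ₀ hψ₀⟩, (hmem _).2 ⟨ψ₀, hψ₀, rfl⟩, by
    show (charDegree (indFun T (ψ₀ : T → ℂ))).factorization p = _
    rw [hdeg ⟨_, hirr ψ₀ hψ₀⟩ ψ₀ rfl, ← he₀]⟩
  have h2 : sInf S₁ = a + sInf S := le_antisymm (Nat.sInf_le h1) (le_csInf ⟨_, h1⟩ fun m hm => by
    obtain ⟨χ, hχ, rfl⟩ := hm
    obtain ⟨ψ, hψ, he⟩ := (hmem χ).1 hχ
    beta_reduce
    rw [show (charDegree (χ : G → ℂ)).factorization p = _ from hdeg χ ψ he]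
    exact Nat.add_le_add_left (Nat.sInf_le (show _ ∈ S from ⟨ψ, hψ, rfl⟩)) a)
  have h3 : (Nat.card G).factorization p = a + (Nat.card T).factorization p := by
    rw [← T.index_mul_card, Nat.factorization_mul Subgroup.index_ne_zero_of_finite Nat.card_pos.ne',
      Finsupp.add_apply]
  rw [blockDefect, blockDefect, ← hS, ← hS₁, h2, h3, Nat.add_sub_add_left]

theorem blockDefect_image_irrEquiv {A A' : Type u} [Group A] [Group A'] (e : A ≃* A')
    (S : Set (IrrCharacter A)) : blockDefect p (irrEquiv e '' S) = blockDefect p S := by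
  rw [blockDefect, blockDefect, Nat.card_congr e.toEquiv, Set.image_image]
  congr 2
  refine Set.image_congr fun χ _ => ?_
  show (charDegree (irrEquiv e χ : A' → ℂ)).factorization p = _
  rw [charDegree, charDegree, irrEquiv_apply, map_one]

/-- A block with normal `p`-subgroup of the size of the defect has it as defect group. -/
theorem isDefectGroup_of_card (hM : IsPModular p M) {A : Type u} [Group A] [Fintype A] [DecidableEq A]
    {b : Set (IrrCharacter A)} (hb : IsPBlock M b) {Q : Subgroup A} [Q.Normal] (hQ : IsPGroup p Q)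
    (hc : Nat.card Q = p ^ blockDefect p b) : IsDefectGroup p M b Q := by
  obtain ⟨D, hD⟩ := exists_defectGroup hM hb
  rwa [Subgroup.eq_of_le_of_card_ge (normal_le_defectGroup hM hb hD hQ)
    (by rw [defectGroup_card hM hb hD, hc])]

variable {G : Type u} [Group G] [Fintype G] [DecidableEq G] {K : Subgroup G} [K.Normal] [Fintype K]
  {P C : Subgroup G}

theorem cjN_subgroupOf_iff {H : Subgroup G} (hCH : C ≤ H) [(C.subgroupOf H).Normal]
    [Fintype (C.subgroupOf H)] (θs : IrrCharacter C) (n : H)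
    (hnC : ∀ g, g ∈ C ↔ (n : G) * g * (n : G)⁻¹ ∈ C) :
    cjN n (irrEquiv (Subgroup.subgroupOfEquivOfLe hCH).symm θs) =
      irrEquiv (Subgroup.subgroupOfEquivOfLe hCH).symm θs ↔ irrEquiv (cjHom hnC) θs = θs := by
  have key : ∀ x : C.subgroupOf H,
      (cjN n (irrEquiv (Subgroup.subgroupOfEquivOfLe hCH).symm θs) : C.subgroupOf H → ℂ) x =
      (irrEquiv (cjHom hnC) θs : C → ℂ) (Subgroup.subgroupOfEquivOfLe hCH x) := fun x => by
    rw [cjN_apply, irrEquiv_apply, irrEquiv_apply]
    exact congrArg _ (Subtype.ext rfl)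
  constructor
  · intro h
    refine Subtype.ext (funext fun c => ?_)
    obtain ⟨x, rfl⟩ := (Subgroup.subgroupOfEquivOfLe hCH).surjective c
    rw [← key, h, irrEquiv_apply]
    rfl
  · intro h
    refine Subtype.ext (funext fun x => ?_)
    rw [key, h, irrEquiv_apply]
    rfl

theorem mem_conj_iff_inf (hC : C = K ⊓ Subgroup.centralizer (P : Set G)) {n : G}
    (hn : n ∈ Subgroup.normalizer (P : Set G)) (g : G) : g ∈ C ↔ n * g * n⁻¹ ∈ C := by
  subst hC
  simp only [Subgroup.mem_inf, mem_centralizer_conj_iff hn]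
  exact and_congr_left fun _ => nconj n g

set_option maxHeartbeats 1000000 in
/-- The case of an invariant character. -/
theorem hasIsometry_of_invariant (hM : IsPModular p M) (hsolv : IsPSolvable p G)
    (hKd : K = pPrimeCore p G) {B : Set (IrrCharacter G)} (hB : IsPBlock M B) (hPD : IsDefectGroup p M B P)
    (hPab : ∀ x ∈ P, ∀ y ∈ P, x * y = y * x) (hC : C = K ⊓ Subgroup.centralizer (P : Set G))
    (hCN : C ≤ Subgroup.normalizer (P : Set G))
    [(C.subgroupOf (Subgroup.normalizer (P : Set G))).Normal] {θ : IrrCharacter K}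
    (hst : ∀ g : G, cjN g θ = θ) {θs : IrrCharacter C}
    (hθs : omG M θs (eG M ({θ} : Set (IrrCharacter K))) = 1)
    {c : Set (IrrCharacter (Subgroup.normalizer (P : Set G)))}
    (hc : IsInducedBlock M (Subgroup.normalizer (P : Set G)) c B)
    {ξ : IrrCharacter (Subgroup.normalizer (P : Set G))} (hξc : ξ ∈ c)
    (hξ : classInner (fun x : C.subgroupOf (Subgroup.normalizer (P : Set G)) =>
        (ξ : Subgroup.normalizer (P : Set G) → ℂ) x)
      (irrEquiv (Subgroup.subgroupOfEquivOfLe hCN).symm θs : C.subgroupOf (Subgroup.normalizer (P : Set G)) → ℂ)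
      ≠ 0) :
    HasIsometry p M B P c := by
  classical
  have := Fintype.ofFinite (IrrCharacter G)
  have hK : ¬ p ∣ Nat.card K := hKd ▸ CfsgLib.Coprime.pPrimeCore_not_dvd hM.1
  have hP := isPGroup_defectGroup hM hB hPD
  have hinv := CoprimeCover.gInv_of_stable hst P
  obtain ⟨hcb, -, hω⟩ := isInducedBlock_iff.mp hc
  obtain ⟨χ, hχ⟩ := isPBlock_nonempty hB
  have hover : χ ∈ CoprimeCover.overSet (G := G) θ :=
    over_of_induced hM hK hinv hC hP hCN hθs hξ (fun z => hω ξ hξc χ hχ z)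
  -- the Sylow subgroup
  have hPi : ¬ p ∣ P.index := by
    intro h
    have h1 := card_defectGroup_of_invariant hM hsolv hKd hst hB hχ hover hPD
    have h2 : p ^ ((Nat.card G).factorization p + 1) ∣ Nat.card G := by
      rw [pow_succ, ← h1, ← P.card_mul_index]
      rw [show Nat.card P * p = Nat.card P * p from rfl]
      exact mul_dvd_mul_left _ h
    exact Nat.pow_succ_factorization_not_dvd Nat.card_pos.ne' hM.1 h2
  -- the image of the Sylow subgroup is normal
  have hS : IsPSolvable p (G ⧸ K) := CfsgLib.PGroup.isPSolvable_quotient hM.1 hsolv K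
  have hself := centralizer_pCore_le_of_isPSolvable hS (by
    subst hKd; exact CfsgLib.Coprime.pPrimeCore_quotient_eq_bot hM.1)
  set W := pCore p (G ⧸ K) with hW
  haveI : W.Normal := CfsgLib.Coprime.pCore_normal' p
  set Pb := P.map (QuotientGroup.mk' K) with hPb
  have hPbp : IsPGroup p Pb := hP.map _
  have hWP : W ≤ Pb := by
    have hsup : IsPGroup p (W ⊔ Pb : Subgroup (G ⧸ K)) :=
      IsPGroup.to_sup_of_normal_left (CfsgLib.Coprime.pCore_isPGroup p) hPbp
    have hidx : ¬ p ∣ Pb.index := fun h =>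
      hPi (h.trans (Subgroup.index_map_dvd P (QuotientGroup.mk'_surjective K)))
    have h1 : Pb.relIndex (W ⊔ Pb) = 1 := by
      obtain ⟨i, hi⟩ := IsPGroup.iff_card.1 hsup
      have h2 : Pb.relIndex (W ⊔ Pb) ∣ p ^ i := hi ▸ Subgroup.relIndex_dvd_card _ _
      obtain ⟨k, -, hk⟩ := (Nat.dvd_prime_pow hM.1).1 h2
      rcases k with _ | k
      · simpa using hk
      · refine absurd ?_ hidx
        rw [← Subgroup.relIndex_mul_index (le_sup_right : Pb ≤ W ⊔ Pb), hk]
        exact dvd_mul_of_dvd_left (dvd_pow_self p (Nat.succ_ne_zero k)) _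
    exact le_sup_left.trans (Subgroup.relIndex_eq_one.1 h1)
  have hPW : Pb = W := le_antisymm (fun x hx => hself (Subgroup.mem_centralizer_iff.2 fun y hy => by
    obtain ⟨a, ha, rfl⟩ := hx
    obtain ⟨b, hb, rfl⟩ := hWP hy
    rw [← map_mul, ← map_mul, hPab b hb a ha])) hWP
  have hsup : K ⊔ P = W.comap (QuotientGroup.mk' K) := by
    rw [← hPW, hPb, Subgroup.comap_map_eq, QuotientGroup.ker_mk', sup_comm]
  haveI hKPn : (K ⊔ P).Normal := hsup ▸ Subgroup.Normal.comap inferInstance _
  have hcent : Subgroup.centralizer (P : Set G) ≤ K ⊔ P := by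
    intro x hx
    rw [hsup, Subgroup.mem_comap]
    refine hself (Subgroup.mem_centralizer_iff.2 fun y hy => ?_)
    obtain ⟨b, hb, rfl⟩ := hWP hy
    rw [← map_mul, ← map_mul, Subgroup.mem_centralizer_iff.1 hx b hb]
  have hsupN : ∀ g : G, ∃ k ∈ K, ∃ n ∈ Subgroup.normalizer (P : Set G), g = k * n := by
    intro g
    have h1 : Subgroup.normalizer (P : Set G) ⊔ (K ⊔ P) = ⊤ := by
      have := Sylow.normalizer_sup_eq_top' (N := K ⊔ P) (hP.toSylow hPi)
        (by rw [IsPGroup.toSylow_coe]; exact le_sup_right)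
      exact this
    have h2 : g ∈ K ⊔ Subgroup.normalizer (P : Set G) := by
      have h3 : g ∈ Subgroup.normalizer (P : Set G) ⊔ (K ⊔ P) := h1 ▸ Subgroup.mem_top g
      refine (sup_le le_sup_right (sup_le le_sup_left ?_) : _ ≤ K ⊔ Subgroup.normalizer (P : Set G)) h3
      exact Subgroup.le_normalizer.trans le_sup_right
    obtain ⟨k, hk, n, hn, e⟩ := Subgroup.mem_sup_of_normal_left.1 h2
    exact ⟨k, hk, n, hn, e.symm⟩
  -- the two blocks
  have hBo : B = CoprimeCover.overSet θ :=
    isPBlock_eq_of_mem hB (CoprimeCover.isPBlock_overSet hM hK hst hP fun x hx hr =>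
      CoprimeCover.mem_of_regular_mem_sup hP (hcent hx) hr) hχ hover
  have hKC : ¬ p ∣ Nat.card (C.subgroupOf (Subgroup.normalizer (P : Set G))) := by
    rw [Nat.card_congr (Subgroup.subgroupOfEquivOfLe hCN).toEquiv]
    exact fun h => hK (h.trans (Subgroup.card_dvd_of_le (hC ▸ inf_le_left)))
  have hsts : ∀ n : Subgroup.normalizer (P : Set G),
      cjN n (irrEquiv (Subgroup.subgroupOfEquivOfLe hCN).symm θs) =
        irrEquiv (Subgroup.subgroupOfEquivOfLe hCN).symm θs := fun n =>
    (cjN_subgroupOf_iff hCN θs n (mem_conj_iff_inf hC n.2)).2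
      ((fixes_iff hM hK hinv hC hP hθs n.2 (mem_conj_iff_inf hC n.2)).1 (hst n))
  haveI : (P.subgroupOf (Subgroup.normalizer (P : Set G))).Normal := Subgroup.normal_in_normalizer
  have hco : c = CoprimeCover.overSet (irrEquiv (Subgroup.subgroupOfEquivOfLe hCN).symm θs) := by
    refine isPBlock_eq_of_mem hcb (CoprimeCover.isPBlock_overSet hM hKC hsts
      (U := P.subgroupOf (Subgroup.normalizer (P : Set G)))
      (hP.of_equiv (Subgroup.subgroupOfEquivOfLe Subgroup.le_normalizer).symm) fun x hx hr => ?_) hξc hξ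
    have hxc : (x : G) ∈ Subgroup.centralizer (P : Set G) := Subgroup.mem_centralizer_iff.2 fun u hu =>
      congrArg Subtype.val (Subgroup.mem_centralizer_iff.1 hx ⟨u, Subgroup.le_normalizer hu⟩ hu)
    exact Subgroup.mem_subgroupOf.2 (hC ▸ ⟨CoprimeCover.mem_of_regular_mem_sup hP (hcent hxc)
      (by rwa [Subgroup.orderOf_coe]), hxc⟩)
  subst hBo hco
  exact exists_isometry_stable hM hK θ hst hP hPi hPab hsupN hC (inf_normalizer_le hK hP hC) θs hθs hCN

set_option maxHeartbeats 1000000 in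
/-- The reduction to the stabiliser. -/
theorem hasIsometry_of_stabilizer (hM : IsPModular p M) (hK : ¬ p ∣ Nat.card K)
    {B : Set (IrrCharacter G)} (hPD : IsDefectGroup p M B P)
    (hC : C = K ⊓ Subgroup.centralizer (P : Set G)) (hCN : C ≤ Subgroup.normalizer (P : Set G))
    [(C.subgroupOf (Subgroup.normalizer (P : Set G))).Normal] {θ : IrrCharacter K}
    (hinv : Glauberman.GInv K P (θ : K → ℂ)) {θs : IrrCharacter C}
    (hθs : omG M θs (eG M ({θ} : Set (IrrCharacter K))) = 1) (T : Subgroup G)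
    (hT : ∀ g, g ∈ T ↔ cjN g θ = θ) (hKT : K ≤ T) (hPT : P ≤ T)
    {c : Set (IrrCharacter (Subgroup.normalizer (P : Set G)))}
    (hcD : IsDefectGroup p M c (P.subgroupOf (Subgroup.normalizer (P : Set G))))
    (hc : IsInducedBlock M (Subgroup.normalizer (P : Set G)) c B)
    {ξ : IrrCharacter (Subgroup.normalizer (P : Set G))} (hξc : ξ ∈ c)
    (hξ : classInner (fun x : C.subgroupOf (Subgroup.normalizer (P : Set G)) =>
        (ξ : Subgroup.normalizer (P : Set G) → ℂ) x)
      (irrEquiv (Subgroup.subgroupOfEquivOfLe hCN).symm θs : C.subgroupOf (Subgroup.normalizer (P : Set G)) → ℂ)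
      ≠ 0)
    (ih : ∀ (B₁ : Set (IrrCharacter T))
      (c₁ : Set (IrrCharacter (Subgroup.normalizer ((P.subgroupOf T : Subgroup T) : Set T)))),
      IsPBlock M B₁ → IsDefectGroup p M B₁ (P.subgroupOf T) →
      IsDefectGroup p M c₁ ((P.subgroupOf T).subgroupOf
        (Subgroup.normalizer ((P.subgroupOf T : Subgroup T) : Set T))) →
      IsInducedBlock M (Subgroup.normalizer ((P.subgroupOf T : Subgroup T) : Set T)) c₁ B₁ →
      HasIsometry p M B₁ (P.subgroupOf T) c₁) :
    HasIsometry p M B P c := by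
  classical
  obtain ⟨hcb, hB, hω⟩ := isInducedBlock_iff.mp hc
  have hP := isPGroup_defectGroup hM hB hPD
  have hbG : IsPBlock M ({θ} : Set (IrrCharacter K)) := Glauberman.singleton_isPBlock hM hK θ
  have hTG : ∀ g : G, g ∈ T ↔ cjN g '' ({θ} : Set (IrrCharacter K)) = {θ} := fun g => by
    rw [Set.image_singleton, Set.singleton_eq_singleton_iff, hT]
  let θN := irrEquiv (Subgroup.subgroupOfEquivOfLe hCN).symm θs
  have hKC : ¬ p ∣ Nat.card (C.subgroupOf (Subgroup.normalizer (P : Set G))) := by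
    rw [Nat.card_congr (Subgroup.subgroupOfEquivOfLe hCN).toEquiv]
    exact fun h => hK (h.trans (Subgroup.card_dvd_of_le (hC ▸ inf_le_left)))
  have hbN := Glauberman.singleton_isPBlock hM hKC θN
  let TN : Subgroup (Subgroup.normalizer (P : Set G)) := T.subgroupOf (Subgroup.normalizer (P : Set G))
  have hTN : ∀ n : Subgroup.normalizer (P : Set G), n ∈ TN ↔ cjN n '' ({θN} : Set _) = {θN} := fun n => by
    rw [Set.image_singleton, Set.singleton_eq_singleton_iff,
      cjN_subgroupOf_iff hCN θs n (mem_conj_iff_inf hC n.2),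
      ← fixes_iff hM hK hinv hC hP hθs n.2 (mem_conj_iff_inf hC n.2), ← hT]
    exact Subgroup.mem_subgroupOf
  have hCT : C.subgroupOf (Subgroup.normalizer (P : Set G)) ≤ TN := fun x hx =>
    Subgroup.mem_subgroupOf.2 (hKT ((hC ▸ inf_le_left : C ≤ K) (Subgroup.mem_subgroupOf.1 hx)))
  -- the correspondent in the stabiliser
  obtain ⟨c', hc'b, hov', hc'i⟩ := fongReynolds_surjective hCT hM hbN hTN hcb ⟨ξ, hξc, θN, rfl, hξ⟩
  obtain ⟨c₀, hc₀, -, hirrN, hmemN⟩ := fongReynolds_block hCT hM hbN hTN hc'b hov'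
  obtain rfl := inducedBlock_unique hc₀ hc'i
  let NT : Subgroup T := Subgroup.normalizer ((P.subgroupOf T : Subgroup T) : Set T)
  have hNT : NT = (Subgroup.normalizer (P : Set G)).subgroupOf T := (Subgroup.subgroupOf_normalizer_eq hPT).symm
  let e : TN ≃* NT :=
    { toFun := fun x => ⟨⟨((x : Subgroup.normalizer (P : Set G)) : G), Subgroup.mem_subgroupOf.1 x.2⟩,
        hNT.ge (Subgroup.mem_subgroupOf.2 (x : Subgroup.normalizer (P : Set G)).2)⟩
      invFun := fun x => ⟨⟨((x : T) : G), Subgroup.mem_subgroupOf.1 (hNT.le x.2)⟩,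
        Subgroup.mem_subgroupOf.2 (x : T).2⟩
      left_inv := fun _ => rfl
      right_inv := fun _ => rfl
      map_mul' := fun _ _ => rfl }
  set b' := irrEquiv e '' c' with hb'
  have hb'b : IsPBlock M b' := isPBlock_image_irrEquiv e hc'b
  have hPT' : IsPGroup p (P.subgroupOf T) := hP.of_equiv (Subgroup.subgroupOfEquivOfLe hPT).symm
  haveI : ((P.subgroupOf T).subgroupOf NT).Normal := Subgroup.normal_in_normalizer
  have hb'D : IsDefectGroup p M b' ((P.subgroupOf T).subgroupOf NT) := by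
    refine isDefectGroup_of_card hM hb'b
      (hPT'.of_equiv (Subgroup.subgroupOfEquivOfLe Subgroup.le_normalizer).symm) ?_
    rw [blockDefect_image_irrEquiv, ← blockDefect_eq_of_ind hM hmemN (fun ψ h => (hirrN ψ h).2)
      (isPBlock_nonempty hc'b), Nat.card_congr (Subgroup.subgroupOfEquivOfLe Subgroup.le_normalizer).toEquiv,
      Nat.card_congr (Subgroup.subgroupOfEquivOfLe hPT).toEquiv, ← defectGroup_card hM hcb hcD,
      Nat.card_congr (Subgroup.subgroupOfEquivOfLe Subgroup.le_normalizer).toEquiv]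
  obtain ⟨B', hB'b, hB'D, hB'i⟩ := exists_induced_normalizer hPT' hM hb'b hb'D
  obtain ⟨I', hI', hμ'⟩ := ih B' b' hB'b hB'D hb'D hB'i
  obtain ⟨-, -, hω'⟩ := isInducedBlock_iff.mp hB'i
  obtain ⟨ξ', hξ'⟩ := isPBlock_nonempty hc'b
  -- the characters of the intermediate block lie over `θ`
  let θT := irrEquiv (Subgroup.subgroupOfEquivOfLe hKT).symm θ
  have hKTp : ¬ p ∣ Nat.card (K.subgroupOf T) := by
    rwa [Nat.card_congr (Subgroup.subgroupOfEquivOfLe hKT).toEquiv]
  haveI := Fintype.ofFinite (K.subgroupOf T)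
  have hstT : ∀ t : T, cjN t θT = θT := fun t => Subtype.ext (funext fun x => by
    rw [cjN_apply, irrEquiv_apply, irrEquiv_apply]
    have h := congrFun (congrArg Subtype.val ((hT t).1 t.2)) (Subgroup.subgroupOfEquivOfLe hKT x)
    rw [cjN_apply] at h
    exact (congrArg _ (Subtype.ext rfl)).trans h)
  have hcoefT : ∀ t : T, (eG M ({θT} : Set (IrrCharacter (K.subgroupOf T)))).coeff t =
      (eG M ({θ} : Set (IrrCharacter K))).coeff (t : G) := by
    intro t
    by_cases ht : (t : G) ∈ K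
    · rw [show t = ((⟨t, ht⟩ : K.subgroupOf T) : T) from rfl, coeff_eG, ← Set.image_singleton,
        show (⟨t, ht⟩ : K.subgroupOf T) = (Subgroup.subgroupOfEquivOfLe hKT).symm ⟨(t : G), ht⟩ from
          Subtype.ext (Subtype.ext rfl), coeffRes_image_irrEquiv, ← coeff_eG (G := G)]
      rfl
    · rw [suppIn_eG _ t fun h => ht h, suppIn_eG _ (t : G) ht]
  have hoverT : ∀ ψ ∈ B', OverB hKT ({θ} : Set (IrrCharacter K)) ψ := by
    intro ψ hψ
    obtain ⟨η, hη⟩ := exists_constituent (N := K.subgroupOf T) ψ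
    have hbT := Glauberman.singleton_isPBlock hM hKTp θT
    let zT := zkOf M _ (CoprimeCover.cinv_eG_singleton (M := M) hstT)
    have h1 : omegaBar M ψ zT = @ite _ (η ∈ ({θT} : Set (IrrCharacter (K.subgroupOf T))))
        (Classical.propDecidable _) 1 0 := by
      rw [omegaBar_eq_omG_of_constituent ψ η hη zT (suppIn_eG _), coe_zkOf, omG_eG hM hbT]
    have h2 : omG M ξ' (eG M ({θN} : Set (IrrCharacter (C.subgroupOf (Subgroup.normalizer (P : Set G)))))) = 1 :=
      omG_eG_of_overB hCT hM hbN hTN ((hirrN ξ' hξ').1)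
    have hz1 : CInv TN (eG M ({θN} : Set (IrrCharacter (C.subgroupOf (Subgroup.normalizer (P : Set G)))))) :=
      cinv_iff_cj.mpr fun n hn => by rw [← cj_eG_cjN, (hTN n).1 hn]
    rw [← hω' (irrEquiv e ξ') ⟨ξ', hξ', rfl⟩ ψ hψ, omegaBar_pull e ξ' (z := cenOf M _ hz1) (fun a => ?_),
      omG_cenOf, h2] at h1
    · split_ifs at h1 with hmem
      · rw [Set.mem_singleton_iff] at hmem
        refine ⟨θ, rfl, ?_⟩
        rw [classInner_resN]
        rw [hmem] at hη
        exact hη
      · exact absurd h1 one_ne_zero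
    · rw [coeff_cenOf, coeff_resHK, coe_zkOf, hcoefT, coeff_eG_normalizer hM hK hinv hC hP hCN hθs]
      rfl
  obtain ⟨ψ₀, hψ₀⟩ := isPBlock_nonempty hB'b
  obtain ⟨B₁, hB₁i, -, hirrG, hmemG⟩ := fongReynolds_block hKT hM hbG hTG hB'b ⟨ψ₀, hψ₀, hoverT ψ₀ hψ₀⟩
  -- it is the given block
  obtain ⟨χ, hχ⟩ := isPBlock_nonempty hB
  let χ₁ : IrrCharacter G := ⟨_, (hirrG ψ₀ hψ₀).2⟩
  have hξ₁ : (⟨_, (hirrN ξ' hξ').2⟩ : IrrCharacter (Subgroup.normalizer (P : Set G))) ∈ c₀ :=
    (hmemN _).2 ⟨ξ', hξ', rfl⟩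
  have hBB : B₁ = B := by
    refine isPBlock_eq_of_mem hB₁i.2.1 hB ((hmemG χ₁).2 ⟨ψ₀, hψ₀, rfl⟩) ?_
    refine (isPBlock_sameBlock hB hχ).mpr (sameBlock_iff_omegaBar.mpr (RingHom.ext fun z => ?_))
    rw [← hω _ hξ₁ χ hχ z, ← omegaBar_resHK_indFun (ψ := ξ') rfl,
      ← omegaBar_resHK_indFun (ψ := ψ₀) (χ := χ₁) rfl,
      ← hω' (irrEquiv e ξ') ⟨ξ', hξ', rfl⟩ ψ₀ hψ₀]
    exact (omegaBar_pull e ξ' fun a => by rw [coeff_resHK, coeff_resHK, coeff_resHK, coeff_resHK]; rfl).symm
  subst hBB
  -- the composite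
  let indN : IrrCharacter TN → IrrCharacter (Subgroup.normalizer (P : Set G)) := fun η =>
    if h : IsIrrCharacter (Subgroup.normalizer (P : Set G)) (indFun TN (η : TN → ℂ)) then ⟨_, h⟩
    else ⟨_, (hirrN ξ' hξ').2⟩
  have hindN : ∀ η ∈ c', (indN η : _ → ℂ) = indFun TN (η : TN → ℂ) := fun η hη => by
    simp only [indN, dif_pos (hirrN η hη).2]
  let indG : IrrCharacter T → IrrCharacter G := fun η =>
    if h : IsIrrCharacter G (indFun T (η : T → ℂ)) then ⟨_, h⟩ else χ₁
  have hindG : ∀ η ∈ B', (indG η : G → ℂ) = indFun T (η : T → ℂ) := fun η hη => by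
    simp only [indG, dif_pos (hirrG η hη).2]
  have hbijN : Set.BijOn indN c' c₀ := by
    refine ⟨fun η hη => (hmemN _).2 ⟨η, hη, hindN η hη⟩, fun η hη η' hη' he => ?_, fun χ hχ => ?_⟩
    · exact indFun_injective_of_overB hCT hM hbN hTN (hirrN η' hη').1 (hirrN η hη).1
        (by rw [← hindN η hη, ← hindN η' hη', he])
    · obtain ⟨η, hη, he⟩ := (hmemN χ).1 hχ
      exact ⟨η, hη, Subtype.ext ((hindN η hη).trans he.symm)⟩
  have hbijG : Set.BijOn indG B' B₁ := by
    refine ⟨fun η hη => (hmemG _).2 ⟨η, hη, hindG η hη⟩, fun η hη η' hη' he => ?_, fun χ hχ => ?_⟩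
    · exact indFun_injective_of_overB hKT hM hbG hTG (hirrG η' hη').1 (hirrG η hη).1
        (by rw [← hindG η hη, ← hindG η' hη', he])
    · obtain ⟨η, hη, he⟩ := (hmemG χ).1 hχ
      exact ⟨η, hη, Subtype.ext ((hindG η hη).trans he.symm)⟩
  haveI : Nonempty (IrrCharacter TN) := ⟨ξ'⟩
  let I : IrrCharacter (Subgroup.normalizer (P : Set G)) → IrrCharacter G := fun η =>
    indG (I' (irrEquiv e (Function.invFunOn indN c' η)))
  have hbe : Set.BijOn (irrEquiv e) c' b' := (irrEquiv e).injective.injOn.bijOn_image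
  refine ⟨I, (hbijG.comp (hI'.comp hbe)).comp (hbijN.symm hbijN.invOn_invFunOn.symm), ?_⟩
  let μ : T → TN → ℂ := fun t s => signedBijectionKernel b' I' (fun _ => 1) t (e s)
  haveI := Fintype.ofFinite TN
  haveI := Fintype.ofFinite (IrrCharacter TN)
  haveI := Fintype.ofFinite (IrrCharacter NT)
  have hμe : ∀ t s, μ t s = ∑ η ∈ c'.toFinset, (I' (irrEquiv e η) : T → ℂ) t * (η : TN → ℂ) s := by
    intro t s
    show signedBijectionKernel b' I' _ t (e s) = _
    rw [signedBijectionKernel, ← finsum_mem_eq_of_bijOn (irrEquiv e) hbe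
      (f := fun η => ((1 : ℤ) : ℂ) * (I' (irrEquiv e η) : T → ℂ) t * (η : TN → ℂ) s) fun η _ => by
        simp [irrEquiv_apply], finsum_mem_eq_toFinset_sum]
    simp
  have hker : ∀ x y, signedBijectionKernel c₀ I (fun _ => 1) x y =
      indFun T (fun t => indFun TN (μ t) y) x := by
    intro x y
    have h1 : (fun t => indFun TN (μ t) y) =
        ∑ η ∈ c'.toFinset, (indFun TN (η : TN → ℂ) y) • (I' (irrEquiv e η) : T → ℂ) := by
      funext t
      rw [show μ t = ∑ η ∈ c'.toFinset, ((I' (irrEquiv e η) : T → ℂ) t) • (η : TN → ℂ) from funext fun s => by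
        rw [hμe]; simp [Finset.sum_apply], Char.indFun_sum]
      simp only [Finset.sum_apply, Char.indFun_smul, Pi.smul_apply, smul_eq_mul]
      exact Finset.sum_congr rfl fun η _ => mul_comm _ _
    rw [h1, Char.indFun_sum, signedBijectionKernel,
      ← finsum_mem_eq_of_bijOn indN hbijN (f := fun η => ((1 : ℤ) : ℂ) *
        (indG (I' (irrEquiv e η)) : G → ℂ) x * (indN η : _ → ℂ) y) fun η hη => by
          show _ = _ * (indG (I' (irrEquiv e (Function.invFunOn indN c' (indN η)))) : G → ℂ) x * _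
          rw [hbijN.invOn_invFunOn.1 hη],
      finsum_mem_eq_toFinset_sum]
    simp only [Finset.sum_apply, Char.indFun_smul, Pi.smul_apply, smul_eq_mul]
    refine Finset.sum_congr rfl fun η hη => ?_
    rw [Set.mem_toFinset] at hη
    rw [hindN η hη, hindG _ (hI'.mapsTo ⟨η, hη, rfl⟩)]
    push_cast
    ring
  rw [show signedBijectionKernel c₀ I (fun _ => 1) = fun x y => indFun T (fun t => indFun TN (μ t) y) x from
    funext fun x => funext (hker x)]
  refine isPerfectFun_ind T TN μ (fun s g k => ?_) (fun t g k => ?_) (isPerfectFun_comp e hμ')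
  · simp only [hμe, Char.isClassFunction_irr _ g k]
  · simp only [hμe, Char.isClassFunction_irr _ g k]

theorem exists_isometry (hM : IsPModular p M) : ∀ (G : Type u) [Group G] [Fintype G], IsPSolvable p G →
    ∀ (B : Set (IrrCharacter G)), IsPBlock M B → ∀ P : Subgroup G, IsDefectGroup p M B P →
      (∀ x ∈ P, ∀ y ∈ P, x * y = y * x) →
      ∀ c : Set (IrrCharacter (Subgroup.normalizer (P : Set G))),
        IsDefectGroup p M c (P.subgroupOf (Subgroup.normalizer (P : Set G))) →
        IsInducedBlock M (Subgroup.normalizer (P : Set G)) c B → HasIsometry p M B P c := by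
  suffices H : ∀ (n : ℕ) (G : Type u) [Group G] [Fintype G], Nat.card G = n → IsPSolvable p G →
      ∀ (B : Set (IrrCharacter G)), IsPBlock M B → ∀ P : Subgroup G, IsDefectGroup p M B P →
        (∀ x ∈ P, ∀ y ∈ P, x * y = y * x) →
        ∀ c : Set (IrrCharacter (Subgroup.normalizer (P : Set G))),
          IsDefectGroup p M c (P.subgroupOf (Subgroup.normalizer (P : Set G))) →
          IsInducedBlock M (Subgroup.normalizer (P : Set G)) c B → HasIsometry p M B P c from
    fun G _ _ => H _ G rfl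
  intro n
  induction n using Nat.strong_induction_on with
  | _ n ih =>
  intro G _ _ hn hsolv B hB P hPD hPab c hcD hc
  classical
  let K : Subgroup G := pPrimeCore p G
  haveI := CfsgLib.Coprime.pPrimeCore_characteristic (G := G) p
  haveI : K.Normal := inferInstanceAs (pPrimeCore p G).Normal
  have hK : ¬ p ∣ Nat.card K := CfsgLib.Coprime.pPrimeCore_not_dvd hM.1
  have hP := isPGroup_defectGroup hM hB hPD
  let C : Subgroup G := K ⊓ Subgroup.centralizer (P : Set G)
  have hCN : C ≤ Subgroup.normalizer (P : Set G) := inf_le_right.trans (centralizer_le_normalizer' P)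
  haveI : (C.subgroupOf (Subgroup.normalizer (P : Set G))).Normal := normal_subgroupOf_inf K
  obtain ⟨ξ, hξc⟩ := isPBlock_nonempty hc.1
  obtain ⟨θN, hθN⟩ := exists_constituent (N := C.subgroupOf (Subgroup.normalizer (P : Set G))) ξ
  obtain ⟨θs, rfl⟩ := (irrEquiv (Subgroup.subgroupOfEquivOfLe hCN).symm).surjective θN
  obtain ⟨θ, hinv, hθs⟩ := Glauberman.exists_up (C := C) rfl hM hP
    (fun s _ k hk => ‹K.Normal›.conj_mem k hk s) hK θs
  let T : Subgroup G :=
    { carrier := {g | cjN g θ = θ}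
      one_mem' := cjN_one θ
      mul_mem' := fun {a b} (ha : cjN a θ = θ) (hb : cjN b θ = θ) => by
        show cjN (a * b) θ = θ
        rw [← cjN_cjN, hb, ha]
      inv_mem' := fun {a} (ha : cjN a θ = θ) => by
        show cjN a⁻¹ θ = θ
        conv_lhs => rw [← ha, cjN_cjN, inv_mul_cancel, cjN_one] }
  by_cases hTt : ∀ g, g ∈ T
  · exact hasIsometry_of_invariant hM hsolv rfl hB hPD hPab rfl hCN hTt hθs hc hξc hθN
  have hKT : K ≤ T := fun k hk => by
    show cjN k θ = θ
    have := cjN_image_of_mem (K := K) hk ({θ} : Set (IrrCharacter K))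
    rwa [Set.image_singleton, Set.singleton_eq_singleton_iff] at this
  have hPT : P ≤ T := fun u hu => Subtype.ext (funext fun k => by
    rw [cjN_apply]
    exact (hinv u hu _ k (by simp [mul_assoc])).symm)
  haveI := Fintype.ofFinite T
  refine hasIsometry_of_stabilizer hM hK hPD rfl hCN hinv hθs T (fun g => Iff.rfl) hKT hPT hcD hc hξc hθN
    fun B₁ c₁ hB₁ hD₁ hcD₁ hc₁ => ?_
  have hlt : Nat.card T < n := by
    rw [← hn]
    obtain ⟨g, hg⟩ := not_forall.1 hTt
    exact lt_of_le_of_ne (Nat.le_of_dvd Nat.card_pos T.card_subgroup_dvd_card) fun e =>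
      hg ((Subgroup.card_eq_iff_eq_top T).1 e ▸ Subgroup.mem_top g)
  exact ih _ hlt T rfl (CfsgLib.CoprimeOrbit.isPSolvable_subgroup hM.1 hsolv T) B₁ hB₁ (P.subgroupOf T) hD₁
    (fun x hx y hy => Subtype.ext (hPab _ hx _ hy)) c₁ hcD₁ hc₁

end CfsgLib.Block.AbelianIso
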