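import Cfsg.Agent.Lib.Block.RegularIndicator
import Cfsg.Agent.Lib.Block.IntegralForm
import Cfsg.Agent.Lib.Char.Determine
import Cfsg.Agent.Lib.Char.Scalar
import Mathlib.RingTheory.SimpleRing.Matrix

/-!
# Reduction of representations to an algebraically closed field of characteristic `p`

`RedField M`: the residue field of a valuation ring of the complex numbers dominating the local ring at
`M`.  A complex representation reduces to it; where it is irreducible on a subgroup of order prime to `p`
the reduction spans all operators there.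
-/

set_option autoImplicit false
set_option linter.unusedSectionVars false

namespace CfsgLib.Block.AbelianIso

open Cfsg CfsgLib.Block Module Matrix

universe u

variable (M : Ideal AlgInt) [M.IsMaximal]

theorem exists_valRing : ∃ A : ValuationSubring ℂ, ∀ z : locRing M,
    (z : ℂ) ∈ A ∧ (res M z = 0 → (z : ℂ) ∈ A.nonunits) := by
  obtain ⟨A, hle, hI⟩ := Ideal.image_subset_nonunits_valuationSubring (RingHom.ker (res M))
    (RingHom.ker_ne_top _)
  exact ⟨A, fun z => ⟨hle z.2, fun h => hI ⟨z, RingHom.mem_ker.2 h, rfl⟩⟩⟩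

/-- A valuation ring dominating the local ring at `M`. -/
noncomputable def valRing : ValuationSubring ℂ := (exists_valRing M).choose

/-- Its residue field. -/
abbrev RedField : Type := IsLocalRing.ResidueField (valRing M)

/-- The inclusion of the local ring. -/
noncomputable def toVal : locRing M →+* valRing M where
  toFun z := ⟨z, ((exists_valRing M).choose_spec z).1⟩
  map_one' := rfl
  map_mul' _ _ := rfl
  map_zero' := rfl
  map_add' _ _ := rfl

/-- Reduction of local integers. -/
noncomputable def red : locRing M →+* RedField M := (IsLocalRing.residue (valRing M)).comp (toVal M)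

theorem red_eq_zero {z : locRing M} (h : res M z = 0) : red M z = 0 :=
  (IsLocalRing.residue_eq_zero_iff _).2 (ValuationSubring.coe_mem_nonunits_iff.1
    (((exists_valRing M).choose_spec z).2 h))

/-- The field embedding. -/
noncomputable def resUp : ResField M →+* RedField M :=
  RingHom.liftOfSurjective (res M) res_surjective ⟨red M, fun _ h => red_eq_zero M (RingHom.mem_ker.1 h)⟩

theorem resUp_res (z : locRing M) : resUp M (res M z) = red M z :=
  RingHom.liftOfRightInverse_comp_apply _ _ _ _ z

theorem charP_redField {p : ℕ} (hM : IsPModular p M) : CharP (RedField M) p :=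
  haveI := charP_resField hM
  charP_of_injective_ringHom (resUp M).injective p

instance isAlgClosed_redField : IsAlgClosed (RedField M) := by
  refine IsAlgClosed.of_exists_root _ fun f hf hirr => ?_
  obtain ⟨g, hgf, -, hgm⟩ := Polynomial.lifts_and_degree_eq_and_monic
    (f := IsLocalRing.residue (valRing M))
    (Polynomial.map_surjective _ IsLocalRing.residue_surjective f) hf
  obtain ⟨z, hz⟩ := IsAlgClosed.exists_root (g.map (algebraMap (valRing M) ℂ)) (by
    rw [hgm.degree_map]
    intro h
    rw [hgm.natDegree_eq_zero.1 (Polynomial.natDegree_eq_zero_iff_degree_le_zero.2 h.le),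
      Polynomial.map_one] at hgf
    exact hirr.not_isUnit (hgf ▸ isUnit_one))
  have hint : IsIntegral (valRing M) z := ⟨g, hgm, by rwa [Polynomial.IsRoot, Polynomial.eval_map] at hz⟩
  obtain ⟨y, hy⟩ := IsIntegrallyClosed.isIntegral_iff.1 hint
  refine ⟨IsLocalRing.residue _ y, ?_⟩
  rw [← hy, Polynomial.IsRoot, Polynomial.eval_map, Polynomial.eval₂_hom,
    FaithfulSMul.algebraMap_eq_zero_iff] at hz
  rw [← hgf, Polynomial.eval_map, Polynomial.eval₂_hom, hz, map_zero]

/-- Entries orthogonality. -/
theorem schur_entries {H : Type u} [Group H] [Fintype H] {n : ℕ} (R : H →* Matrix (Fin n) (Fin n) ℂ)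
    (ρ : Representation ℂ H (Fin n → ℂ)) [ρ.IsIrreducible] (hR : ∀ h, ρ h = toLin' (R h))
    (a b j l : Fin n) :
    (n : ℂ) * ∑ g : H, R g a j * R g⁻¹ l b = if a = b ∧ j = l then (Nat.card H : ℂ) else 0 := by
  set T : Matrix (Fin n) (Fin n) ℂ := ∑ g : H, R g * Matrix.single j l 1 * R g⁻¹ with hT
  have hcomm : ∀ x : H, toLin' T * ρ x = ρ x * toLin' T := fun x => by
    rw [hR, Module.End.mul_eq_comp, Module.End.mul_eq_comp, ← toLin'_mul, ← toLin'_mul, hT,
      Finset.sum_mul, Finset.mul_sum]
    congr 1
    refine Fintype.sum_equiv (Equiv.mulLeft x⁻¹) _ _ fun g => ?_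
    simp only [Equiv.coe_mulLeft, _root_.mul_inv_rev, inv_inv, map_mul, ← mul_assoc]
    rw [← map_mul R x x⁻¹, mul_inv_cancel, map_one, one_mul]
  obtain ⟨c, hc⟩ := Char.schur_scalar ρ (toLin' T) hcomm
  have hTc : T = c • (1 : Matrix (Fin n) (Fin n) ℂ) := toLin'.injective (by
    rw [hc, map_smul, toLin'_one])
  have htr : c * n = if j = l then (Nat.card H : ℂ) else 0 := by
    have h1 : trace T = c * n := by
      rw [hTc, trace_smul, trace_one, Fintype.card_fin, smul_eq_mul]
    rw [← h1, hT, trace_sum, Finset.sum_congr rfl fun g _ => by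
      rw [trace_mul_cycle, ← map_mul, inv_mul_cancel, map_one, one_mul]]
    rw [Finset.sum_const, Finset.card_univ, ← Nat.card_eq_fintype_card, nsmul_eq_mul]
    by_cases h : j = l
    · subst h; simp
    · simp [h]
  have hent : T a b = ∑ g : H, R g a j * R g⁻¹ l b := by
    rw [hT, Matrix.sum_apply]
    refine Finset.sum_congr rfl fun g _ => ?_
    rw [Matrix.mul_apply, Finset.sum_eq_single l]
    · simp [Matrix.mul_apply, Matrix.single, Matrix.of_apply]
    · intro i _ hi
      simp [Matrix.mul_apply, Matrix.single, Matrix.of_apply, hi.symm]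
    · simp
  rw [← hent, hTc, Matrix.smul_apply, Matrix.one_apply, smul_eq_mul]
  by_cases h : a = b
  · simp only [h, true_and, if_true, mul_one]
    rw [← htr, mul_comm]
  · simp [h]

/-- From the entries to the reconstruction of a matrix. -/
theorem recon_of_entries {R : Type*} [CommRing R] {H : Type*} [Fintype H] [Inv H] {n : ℕ}
    (S : H → Matrix (Fin n) (Fin n) R) (N : R)
    (h : ∀ a b j l : Fin n, (n : R) * ∑ g : H, S g a j * S g⁻¹ l b = if a = b ∧ j = l then N else 0)
    (X : Matrix (Fin n) (Fin n) R) : (n : R) • ∑ g : H, trace (S g⁻¹ * X) • S g = N • X := by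
  ext a j
  simp only [Matrix.smul_apply, Matrix.sum_apply, smul_eq_mul, trace, Matrix.diag_apply, Matrix.mul_apply,
    Finset.sum_mul, Finset.mul_sum]
  rw [Finset.sum_comm, Finset.sum_congr rfl fun l _ => Finset.sum_comm]
  calc ∑ l, ∑ b, ∑ g : H, (n : R) * (S g⁻¹ l b * X b l * S g a j)
      = ∑ l, ∑ b, X b l * ((n : R) * ∑ g : H, S g a j * S g⁻¹ l b) := by
        refine Finset.sum_congr rfl fun l _ => Finset.sum_congr rfl fun b _ => ?_
        rw [Finset.mul_sum, Finset.mul_sum]
        exact Finset.sum_congr rfl fun g _ => by ring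
    _ = N * X a j := by simp [h, ite_and, mul_comm]

variable {M}

theorem char_mem_locRing {H : Type u} [Group H] [Finite H] {n : ℕ} (ρ : Representation ℂ H (Fin n → ℂ))
    (g : H) : ρ.character g ∈ locRing M :=
  integral_mem M (Char.char_pow_eq_sum_isIntegral ρ g)

/-- A reduction of a representation. -/
structure IsReduction {H : Type u} [Group H] [Finite H] {n : ℕ} (ρ : Representation ℂ H (Fin n → ℂ))
    (σ : H →* Module.End (RedField M) (Fin n → RedField M)) : Prop where
  trace_eq : ∀ g, LinearMap.trace (RedField M) _ (σ g) = red M ⟨ρ.character g, char_mem_locRing ρ g⟩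
  scalar : ∀ (z : H) (w : ℂ) (hw : w ∈ locRing M), ρ z = w • 1 → σ z = red M ⟨w, hw⟩ • 1
  recon : ∀ (A : Type u) [Group A] [Fintype A] (i : A →* H),
    Representation.IsIrreducible (ρ.comp i : Representation ℂ A (Fin n → ℂ)) →
    ∀ a : Module.End (RedField M) (Fin n → RedField M),
      (n : RedField M) • ∑ g : A, LinearMap.trace (RedField M) _ (σ (i g⁻¹) * a) • σ (i g) =
        (Nat.card A : RedField M) • a

theorem exists_reduction {H : Type u} [Group H] [Finite H] {n : ℕ} (ρ : Representation ℂ H (Fin n → ℂ)) :
    ∃ σ, IsReduction (M := M) ρ σ := by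
  classical
  obtain ⟨RA, hRA⟩ := exists_integral_form (valRing M) ρ
  let R : H →* Matrix (Fin n) (Fin n) ℂ := ((valRing M).subtype.mapMatrix).toMonoidHom.comp RA
  let ρ' : Representation ℂ H (Fin n → ℂ) :=
    (toLinAlgEquiv' : Matrix (Fin n) (Fin n) ℂ ≃ₐ[ℂ] _).toAlgHom.toRingHom.toMonoidHom.comp R
  have hρ' : ∀ g, ρ' g = toLin' (R g) := fun g => rfl
  have hchar : ρ'.character = ρ.character := funext fun g => by
    show LinearMap.trace ℂ _ (ρ' g) = _
    rw [hρ', trace_toLin'_eq]
    exact hRA g
  obtain ⟨φ⟩ := Char.nonempty_equiv_of_character_eq ρ ρ' hchar.symm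
  let S : H →* Matrix (Fin n) (Fin n) (RedField M) :=
    ((IsLocalRing.residue (valRing M)).mapMatrix).toMonoidHom.comp RA
  let σ : H →* Module.End (RedField M) (Fin n → RedField M) :=
    (toLinAlgEquiv' : Matrix (Fin n) (Fin n) (RedField M) ≃ₐ[_] _).toAlgHom.toRingHom.toMonoidHom.comp S
  have hσ : ∀ g, σ g = toLin' (S g) := fun g => rfl
  refine ⟨σ, ⟨fun g => ?_, fun z w hw hz => ?_, fun A _ _ i hirr a => ?_⟩⟩
  · rw [hσ, trace_toLin'_eq,
      show trace (S g) = IsLocalRing.residue (valRing M) (trace (RA g)) from
        (AddMonoidHom.map_trace (IsLocalRing.residue (valRing M)).toAddMonoidHom _).symm]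
    exact congrArg _ (Subtype.ext ((AddMonoidHom.map_trace
      ((valRing M).subtype).toAddMonoidHom (RA g)).trans (hRA g)))
  · have h1 : ρ' z = w • 1 := by
      refine LinearMap.ext fun v => ?_
      obtain ⟨u, rfl⟩ := φ.toLinearEquiv.surjective v
      have h2 : φ.toLinearEquiv (ρ z u) = ρ' z (φ.toLinearEquiv u) :=
        Representation.IntertwiningMap.isIntertwining ρ ρ' φ.toIntertwiningMap z u
      rw [← h2, hz]
      simp
    have h2 : R z = w • 1 := toLin'.injective (by rw [← hρ', h1, map_smul, toLin'_one]; rfl)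
    have h3 : RA z = (toVal M ⟨w, hw⟩) • 1 := by
      ext a b
      refine Eq.trans (congrFun (congrFun h2 a) b) ?_
      rw [Matrix.smul_apply, Matrix.smul_apply, Matrix.one_apply, Matrix.one_apply]
      split_ifs <;> simp [toVal]
    rw [hσ, show S z = red M ⟨w, hw⟩ • 1 by
      ext a b
      show IsLocalRing.residue (valRing M) (RA z a b) = _
      rw [h3, Matrix.smul_apply, Matrix.smul_apply, Matrix.one_apply, Matrix.one_apply]
      split_ifs <;> simp [red], map_smul, toLin'_one]
    rfl
  · haveI := hirr
    haveI : Representation.IsIrreducible (ρ'.comp i : Representation ℂ A (Fin n → ℂ)) :=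
      Char.isIrreducible_of_equiv (ρ := (ρ.comp i : Representation ℂ A (Fin n → ℂ)))
      (Representation.Equiv.mk φ.toLinearEquiv fun g => by
        refine LinearMap.ext fun x => ?_
        exact Representation.IntertwiningMap.isIntertwining ρ ρ' φ.toIntertwiningMap (i g) x)
    have hS : ∀ a b j l : Fin n, (n : RedField M) * ∑ g : A, S (i g) a j * S (i g⁻¹) l b =
        if a = b ∧ j = l then (Nat.card A : RedField M) else 0 := by
      intro a b j l
      have h1 := schur_entries (R.comp i) (ρ'.comp i) (fun g => rfl) a b j l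
      have h2 : (n : valRing M) * ∑ g : A, RA (i g) a j * RA (i g⁻¹) l b =
          if a = b ∧ j = l then (Nat.card A : valRing M) else 0 := by
        refine (show Function.Injective (valRing M).subtype from Subtype.val_injective) ?_
        rw [apply_ite (valRing M).subtype, map_mul, map_sum, map_natCast, map_natCast, map_zero, ← h1]
        simp only [map_mul]
        rfl
      have h3 := congrArg (IsLocalRing.residue (valRing M)) h2
      rw [apply_ite (IsLocalRing.residue (valRing M)), map_mul, map_sum, map_natCast, map_natCast,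
        map_zero] at h3
      simp only [map_mul] at h3
      exact h3
    obtain ⟨X, rfl⟩ := (toLin' : Matrix (Fin n) (Fin n) (RedField M) ≃ₗ[_] _).surjective a
    have h4 := congrArg toLin' (recon_of_entries (fun g : A => S (i g)) _ hS X)
    rw [map_smul, map_smul, map_sum] at h4
    rw [← h4]
    congr 1
    refine Finset.sum_congr rfl fun g _ => ?_
    rw [map_smul, hσ, hσ, Module.End.mul_eq_comp, ← toLin'_mul, trace_toLin'_eq]

end CfsgLib.Block.AbelianIso
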