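import Cfsg.Agent.Lib.Block.AbelianIso.Descend
import Cfsg.Prelude.Def_BlockLocal

/-!
# The isometry over an invariant character

With an abelian Sylow `p`-subgroup `P` whose normaliser supplements the normal `p'`-subgroup `K`, the
characters over an invariant character of `K` and those of the normaliser over its correspondent correspond
by a perfect isometry without signs.
-/

set_option autoImplicit false
set_option linter.unusedSectionVars false

open scoped ComplexConjugate

namespace CfsgLib.Block.AbelianIso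

open Cfsg CfsgLib CfsgLib.Block
open scoped Pair

universe u

variable {p : ℕ} [hp : Fact p.Prime] {M : Ideal AlgInt} [M.IsMaximal]

section Sums

variable {A G Q : Type u} [Group A] [Group G] [Group Q] [Fintype A] [Fintype Q] [Fintype (IrrCharacter Q)]
  (φ : A →* G) [Fintype φ.ker] (q : A →* Q) (w : φ.ker →* ℂ) [DecidablePred (· ∈ allowed φ q w)]

/-- The pairing of two elements by the allowed characters. -/
noncomputable def pairing (a b : Q) : ℂ :=
  ∑ lam ∈ Finset.univ.filter (· ∈ allowed φ q w), (lam : Q → ℂ) a * (lam : Q → ℂ) b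

theorem pairing_comm (a b : Q) : pairing φ q w a b = pairing φ q w b a :=
  Finset.sum_congr rfl fun _ _ => mul_comm _ _

variable {φ q w}

theorem card_mul_pairing (hc : ∀ z : φ.ker, q z ∈ Subgroup.center Q) (a b : Q)
    [∀ z : φ.ker, Decidable (IsConj (q z * a) b⁻¹)] :
    (Nat.card φ.ker : ℂ) * pairing φ q w a b =
      (Nat.card (Subgroup.centralizer ({a} : Set Q)) : ℂ) *
        ∑ z : φ.ker, if IsConj (q z * a) b⁻¹ then w z else 0 := by
  classical
  rw [pairing, sum_allowed w hc, Finset.mul_sum]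
  refine Finset.sum_congr rfl fun z _ => ?_
  have h1 : Subgroup.centralizer ({q z * a} : Set Q) = Subgroup.centralizer ({a} : Set Q) := by
    ext x
    simp only [Subgroup.mem_centralizer_singleton_iff]
    rw [← mul_assoc, Subgroup.mem_center_iff.1 (hc z) x, mul_assoc, mul_assoc, mul_right_inj]
  have h2 : ∑ lam : IrrCharacter Q, (lam : Q → ℂ) (q z * a) * (lam : Q → ℂ) b =
      if IsConj (q z * a) b⁻¹ then (Nat.card (Subgroup.centralizer ({a} : Set Q)) : ℂ) else 0 := by
    rw [← h1, ← Char.sum_irr_mul_conj]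
    refine Finset.sum_congr rfl fun lam _ => ?_
    rw [← Char.irr_inv lam, inv_inv]
  rw [h2]
  split_ifs <;> simp [mul_comm]

theorem pairing_div_mem (hM : IsPModular p M) (hpZ : ¬ p ∣ Nat.card φ.ker)
    (hc : ∀ z : φ.ker, q z ∈ Subgroup.center Q) (a b : Q) :
    pairing φ q w a b / (Nat.card (Subgroup.centralizer ({a} : Set Q)) : ℂ) ∈ locRing M := by
  classical
  have h1 : pairing φ q w a b / (Nat.card (Subgroup.centralizer ({a} : Set Q)) : ℂ) =
      (Nat.card φ.ker : ℂ)⁻¹ * ∑ z : φ.ker, if IsConj (q z * a) b⁻¹ then w z else 0 := by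
    rw [eq_inv_mul_iff_mul_eq₀ (Nat.cast_ne_zero.2 Nat.card_pos.ne'), ← mul_div_assoc,
      card_mul_pairing hc, mul_div_cancel_left₀ _ (Nat.cast_ne_zero.2 Nat.card_pos.ne')]
  rw [h1]
  refine mul_mem (inv_natCast_mem hM hpZ) (sum_mem fun z _ => ?_)
  split_ifs
  · exact integral_mem M (Char.isIntegral_of_pow_eq_one Nat.card_pos.ne'
      (n := Nat.card φ.ker) (by rw [← map_pow, pow_card_eq_one', map_one]))
  · exact zero_mem _

theorem regular_of_pairing_ne_zero (hpZ : ¬ p ∣ Nat.card φ.ker)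
    (hc : ∀ z : φ.ker, q z ∈ Subgroup.center Q) {a b : Q} (h : pairing φ q w a b ≠ 0) :
    IsPRegular p a ↔ IsPRegular p b := by
  classical
  have h0 := mul_ne_zero (Nat.cast_ne_zero.2 (Nat.card_pos (α := φ.ker)).ne' : (Nat.card φ.ker : ℂ) ≠ 0) h
  rw [card_mul_pairing hc] at h0
  obtain ⟨z, -, hz⟩ := Finset.exists_ne_zero_of_sum_ne_zero (right_ne_zero_of_mul h0)
  have hcj : IsConj (q z * a) b⁻¹ := by
    by_contra e
    exact hz (if_neg e)
  have hzn : q z ^ Nat.card φ.ker = 1 := by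
    rw [← map_pow, show (z : A) ^ Nat.card φ.ker = ((z ^ Nat.card φ.ker : φ.ker) : A) from rfl,
      pow_card_eq_one', OneMemClass.coe_one, map_one]
  have key : ∀ {c x : Q}, Commute c x → c ^ Nat.card φ.ker = 1 → p ∣ orderOf (c * x) → p ∣ orderOf x :=
    fun {c x} hcx hcn hd => (hp.out.dvd_mul.1 (hd.trans (orderOf_dvd_of_pow_eq_one (by
      rw [hcx.mul_pow, pow_mul, hcn, one_pow, one_mul, mul_comm, pow_mul, pow_orderOf_eq_one,
        one_pow])))).resolve_left hpZ
  obtain ⟨g, hg⟩ := isConj_iff.1 hcj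
  have ho : orderOf b = orderOf (q z * a) := by
    rw [← orderOf_inv b, ← hg, orderOf_conj_eq]
  have hcomm : Commute (q z) a := (Subgroup.mem_center_iff.1 (hc z) a).symm
  simp only [IsPRegular, ho]
  refine not_congr ⟨fun hd => ?_, key hcomm hzn⟩
  have h2 := key (c := (q z)⁻¹) (x := q z * a) (Commute.inv_left ((Commute.refl _).mul_right hcomm))
    (by rw [inv_pow, hzn, inv_one]) (by rwa [inv_mul_cancel_left])
  exact h2

end Sums

variable {G : Type u} [Group G] [Fintype G] [DecidableEq G] {K : Subgroup G} [K.Normal] [Fintype K]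
  {P : Subgroup G}

/-- The perfect isometry over an invariant character. -/
theorem exists_isometry_stable (hM : IsPModular p M) (hK : ¬ p ∣ Nat.card K) (θ : IrrCharacter K)
    (hinv : ∀ g : G, cjN g θ = θ) (hP : IsPGroup p P) (hPi : ¬ p ∣ P.index)
    (hPab : ∀ x ∈ P, ∀ y ∈ P, x * y = y * x)
    (hsup : ∀ g : G, ∃ k ∈ K, ∃ n ∈ Subgroup.normalizer (P : Set G), g = k * n) {C : Subgroup G}
    (hC : C = K ⊓ Subgroup.centralizer (P : Set G)) (hKN : K ⊓ Subgroup.normalizer (P : Set G) ≤ C)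
    (θs : IrrCharacter C) (hθs : omG M θs (eG M ({θ} : Set (IrrCharacter K))) = 1)
    (hCN : C ≤ Subgroup.normalizer (P : Set G))
    [Fintype (C.subgroupOf (Subgroup.normalizer (P : Set G)))] :
    ∃ I : IrrCharacter (Subgroup.normalizer (P : Set G)) → IrrCharacter G,
      Set.BijOn I (CoprimeCover.overSet (irrEquiv (Subgroup.subgroupOfEquivOfLe hCN).symm θs))
        (CoprimeCover.overSet θ) ∧
      IsPerfectFun p M (signedBijectionKernel
        (CoprimeCover.overSet (irrEquiv (Subgroup.subgroupOfEquivOfLe hCN).symm θs)) I fun _ => 1) := by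
  classical
  obtain ⟨E, iE, iEf, π, j, d, ρ, w, hπ, hπj, hjn, hZ, hpZ, hρj, hρ, hρθ, hw⟩ :=
    exists_triple K hK θ (fun g => (conjFun_eq_cjN g θ).trans (congrArg Subtype.val (hinv _)))
  letI := iE
  letI := iEf
  haveI := hjn
  set A := (Subgroup.normalizer (P : Set G)).comap π with hA
  obtain ⟨Θs, hΘs1, hΘs2⟩ := exists_extension_star hM hK θ hinv hP hPi hPab hC θs hθs π hπ j hπj hjn hZ
    hpZ ρ hρj hρθ w hw
  letI : Fintype A := Fintype.ofFinite A
  haveI := hρ
  let Θ : IrrCharacter E := ⟨ρ.character, ⟨d, ρ, hρ, rfl⟩⟩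
  have hΘz : ∀ (z : π.ker) (a : E), (Θ : E → ℂ) ((z : E) * a) = w z * (Θ : E → ℂ) a := fun z a => by
    show LinearMap.trace ℂ _ (ρ ((z : E) * a)) = w z * LinearMap.trace ℂ _ (ρ a)
    rw [map_mul, hw, Algebra.smul_mul_assoc, one_mul, map_smul, smul_eq_mul]
  let Q := E ⧸ j.range
  letI : Fintype Q := Fintype.ofFinite Q
  letI := Fintype.ofFinite (IrrCharacter Q)
  letI : Fintype π.ker := Fintype.ofFinite _
  let q : E →* Q := QuotientGroup.mk' j.range
  have hjinj : Function.Injective j := fun a b h => Subtype.ext (by rw [← hπj a, h, hπj])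
  have hqker : q.ker = j.range := QuotientGroup.ker_mk' _
  letI : Fintype q.ker := Fintype.ofFinite _
  have hqp : ¬ p ∣ Nat.card q.ker := by
    rwa [hqker, ← Nat.card_congr (j.ofInjective hjinj).toEquiv]
  let eK : q.ker ≃* K := (MulEquiv.subgroupCongr hqker).trans (j.ofInjective hjinj).symm
  have heK : ∀ n : q.ker, j (eK n) = n := fun n =>
    congrArg Subtype.val ((j.ofInjective hjinj).apply_symm_apply (MulEquiv.subgroupCongr hqker n))
  obtain ⟨J, hJb, hJ⟩ := exists_twist hπ (QuotientGroup.mk'_surjective _) Θ w hΘz θ eK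
    (fun n => by rw [← hπj (eK n), heK]) (fun n => by rw [← hρθ (eK n), heK])
  -- the normaliser
  let φA : A →* (Subgroup.normalizer (P : Set G)) := (π.comp A.subtype).codRestrict (Subgroup.normalizer (P : Set G)) fun a => a.2
  have hφA : Function.Surjective φA := fun n => by
    obtain ⟨e, he⟩ := hπ n
    exact ⟨⟨e, Subgroup.mem_comap.2 (he ▸ n.2)⟩, Subtype.ext he⟩
  let qA : A →* Q := q.comp A.subtype
  have hqA : Function.Surjective qA := fun y => by
    obtain ⟨e, rfl⟩ := QuotientGroup.mk'_surjective j.range y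
    obtain ⟨k, hk, n, hn, hkn⟩ := hsup (π e)
    refine ⟨⟨(j ⟨k, hk⟩)⁻¹ * e, ?_⟩, ?_⟩
    · rw [hA, Subgroup.mem_comap, map_mul, map_inv, hπj, hkn, inv_mul_cancel_left]
      exact hn
    · show q ((j ⟨k, hk⟩)⁻¹ * e) = q e
      rw [map_mul, map_inv, MonoidHom.mem_ker.1 (hqker.ge ⟨_, rfl⟩), inv_one, one_mul]
  letI : Fintype φA.ker := Fintype.ofFinite _
  letI : Fintype qA.ker := Fintype.ofFinite _
  let toZ : φA.ker →* π.ker := ((A.subtype).comp φA.ker.subtype).codRestrict π.ker fun z =>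
    MonoidHom.mem_ker.2 (congrArg Subtype.val (MonoidHom.mem_ker.1 z.2))
  let wA : φA.ker →* ℂ := w.comp toZ
  have hall : allowed φA qA wA = allowed π q w := Set.ext fun lam =>
    ⟨fun h z => h ⟨⟨z, Subgroup.mem_comap.2 ((MonoidHom.mem_ker.1 z.2).symm ▸ (Subgroup.normalizer (P : Set G)).one_mem)⟩,
      MonoidHom.mem_ker.2 (Subtype.ext (MonoidHom.mem_ker.1 z.2))⟩, fun h z => h (toZ z)⟩
  have hmemK : ∀ a : A, a ∈ qA.ker → ∃ k : K, j k = a := fun a ha =>
    ⟨eK ⟨a, MonoidHom.mem_ker.2 (MonoidHom.mem_ker.1 ha)⟩, heK _⟩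
  let f : qA.ker →* C.subgroupOf (Subgroup.normalizer (P : Set G)) := (φA.comp qA.ker.subtype).codRestrict _ fun a => by
    obtain ⟨k, hk⟩ := hmemK a a.2
    refine Subgroup.mem_subgroupOf.2 (hKN ⟨?_, (φA (a : A)).2⟩)
    show π ((a : A) : E) ∈ K
    rw [← hk, hπj]
    exact k.2
  have hfb : Function.Bijective f := by
    refine ⟨(injective_iff_map_eq_one f).2 fun a ha => ?_, fun c => ?_⟩
    · obtain ⟨k, hk⟩ := hmemK a a.2
      have h1 : π ((a : A) : E) = 1 := congrArg (fun x : C.subgroupOf (Subgroup.normalizer (P : Set G)) => ((x : (Subgroup.normalizer (P : Set G))) : G)) ha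
      rw [← hk, hπj] at h1
      exact Subtype.ext (Subtype.ext (by rw [← hk, show k = 1 from Subtype.ext h1, map_one]; rfl))
    · have hcK : ((c : (Subgroup.normalizer (P : Set G))) : G) ∈ K := (hC ▸ inf_le_left : C ≤ K) (Subgroup.mem_subgroupOf.1 c.2)
      refine ⟨⟨⟨j ⟨_, hcK⟩, by rw [hA, Subgroup.mem_comap, hπj]; exact (c : (Subgroup.normalizer (P : Set G))).2⟩, ?_⟩,
        Subtype.ext (Subtype.ext (hπj _))⟩
      exact MonoidHom.mem_ker.2 (MonoidHom.mem_ker.1 (hqker.ge ⟨_, rfl⟩) : q _ = 1)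
  let eC : qA.ker ≃* C.subgroupOf (Subgroup.normalizer (P : Set G)) := MulEquiv.ofBijective f hfb
  obtain ⟨Js, hJsb, hJs⟩ := exists_twist hφA hqA Θs wA (fun z a => hΘs2 (toZ z) a _ rfl)
    (irrEquiv (Subgroup.subgroupOfEquivOfLe hCN).symm θs) eC (fun n => rfl) (fun n => by
      have hcK : ((Subgroup.subgroupOfEquivOfLe hCN (eC n) : C) : G) ∈ K :=
        (hC ▸ inf_le_left : C ≤ K) (Subgroup.subgroupOfEquivOfLe hCN (eC n)).2
      rw [irrEquiv_apply, MulEquiv.symm_symm]
      refine hΘs1 _ _ hcK ?_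
      obtain ⟨k, hk⟩ := hmemK n n.2
      rw [← hk]
      refine congrArg j (Subtype.ext ?_)
      show (k : G) = π ((n : A) : E)
      rw [← hk, hπj])
  rw [hall] at hJsb hJs
  haveI : Nonempty (IrrCharacter Q) := ⟨⟨fun _ => 1, Char.isIrrCharacter_one⟩⟩
  set al := allowed π q w with hal
  let I : IrrCharacter (Subgroup.normalizer (P : Set G)) → IrrCharacter G := fun η => J (Function.invFunOn Js al η)
  refine ⟨I, hJb.comp (Set.BijOn.symm hJsb.invOn_invFunOn.symm hJsb), ?_⟩
  set c := CoprimeCover.overSet (irrEquiv (Subgroup.subgroupOfEquivOfLe hCN).symm θs) with hc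
  have hμ : ∀ (a : E) (b : A), signedBijectionKernel c I (fun _ => 1) (π a) (φA b) =
      (Θ : E → ℂ) a * (Θs : A → ℂ) b * pairing π q w (q a) (qA b) := by
    intro a b
    rw [signedBijectionKernel, ← finsum_mem_eq_of_bijOn (s := al) Js hJsb
      (f := fun lam => ((1 : ℤ) : ℂ) * (J lam : G → ℂ) (π a) * (Js lam : (Subgroup.normalizer (P : Set G)) → ℂ) (φA b)) fun lam hlam => ?_,
      finsum_mem_eq_toFinset_sum, pairing, Finset.mul_sum]
    · refine Finset.sum_congr (Finset.ext fun lam => by simp [hal]) fun lam hlam => ?_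
      have hm : lam ∈ al := by simpa [hal] using hlam
      rw [hJ lam hm, hJs lam hm]
      push_cast
      ring
    · show _ = _ * (J (Function.invFunOn Js al (Js lam)) : G → ℂ) (π a) * _
      rw [hJsb.invOn_invFunOn.1 hlam]
  have hcz : ∀ z : π.ker, q z ∈ Subgroup.center Q := fun z => Subgroup.mem_center_iff.2 fun y => by
    obtain ⟨e, rfl⟩ := QuotientGroup.mk'_surjective j.range y
    rw [← map_mul, ← map_mul, hZ z z.2 e]
  have hpA : ¬ p ∣ Nat.card φA.ker := fun h => hpZ (h.trans (Subgroup.card_dvd_of_injective toZ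
    fun a b h => Subtype.ext (Subtype.ext (congrArg Subtype.val h :))))
  have hpqA : ¬ p ∣ Nat.card qA.ker := by
    rw [Nat.card_congr eC.toEquiv, Nat.card_congr (Subgroup.subgroupOfEquivOfLe hCN).toEquiv]
    exact fun h => hK (h.trans (Subgroup.card_dvd_of_le (hC ▸ inf_le_left)))
  intro x y
  obtain ⟨a, rfl⟩ := hπ x
  obtain ⟨b, rfl⟩ := hφA y
  rw [hμ]
  have hint : (Θ : E → ℂ) a * (Θs : A → ℂ) b ∈ locRing M :=
    mul_mem (irr_mem_locRing M Θ a) (irr_mem_locRing M Θs b)
  have key : ∀ (u v : ℂ) (cq cg : ℕ), cq ≠ 0 → u ∈ locRing M → v / (cq : ℂ) ∈ locRing M →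
      (cq : ℂ) / (cg : ℂ) ∈ locRing M → MemLocalRing M (u * v / (cg : ℂ)) := by
    intro u v cq cg hcq hu hv hg
    rw [← mem_locRing_iff, show u * v / (cg : ℂ) = u * (v / (cq : ℂ)) * ((cq : ℂ) / (cg : ℂ)) by
      have : (cq : ℂ) ≠ 0 := Nat.cast_ne_zero.2 hcq
      field_simp]
    exact mul_mem (mul_mem hu hv) hg
  refine ⟨key _ _ _ _ Nat.card_pos.ne' hint (pairing_div_mem hM hpZ hcz (q a) (qA b))
      (card_centralizer_div_mem M hM π hπ hZ hpZ q hqp a),
    key _ _ _ _ Nat.card_pos.ne' hint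
      (by rw [pairing_comm]; exact pairing_div_mem hM hpZ hcz (qA b) (q a))
      (card_centralizer_div_mem M hM φA hφA (fun z hz e => Subtype.ext (hZ z
        (MonoidHom.mem_ker.2 (congrArg Subtype.val (MonoidHom.mem_ker.1 hz))) e)) hpA qA hpqA b), ?_⟩
  by_cases h0 : pairing π q w (q a) (qA b) = 0
  · exact Or.inr (by rw [h0, mul_zero])
  · left
    rw [isPRegular_map_iff π hpZ a, isPRegular_map_iff φA hpA b, ← isPRegular_map_iff q hqp a,
      ← isPRegular_map_iff qA hpqA b]
    exact regular_of_pairing_ne_zero hpZ hcz h0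

end CfsgLib.Block.AbelianIso
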